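import Cfsg.Agent.H83.Classical.OPlusSystem

/-!
The Tits system of type D, its index in the orthogonal group and the Steinberg character of the central quotient
of a normal subgroup containing the orthogonal unitriangular elements.
-/

set_option autoImplicit false
set_option linter.unusedSectionVars false
set_option linter.unusedFintypeInType false
set_option linter.unusedVariables false

namespace Cfsg.Agent.H83.Classical.OPlus

open Matrix Equiv Cfsg.Agent.Linear Cfsg.Agent.H54 Cfsg.Agent.H52.TwistedBruhat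
open Cfsg.Agent.H37 NormalForm
open scoped MatrixGroups

variable {m : ℕ} {F : Type*} [Field F] [Finite F]

theorem rev_mid_comm : Fin.revPerm * mid m = mid m * Fin.revPerm := by
  ext x
  simp only [Equiv.Perm.mul_apply, Fin.revPerm_apply]
  rw [TwData.rev_comm (show revConj (mid m) = mid m from mid_sym)]

/-- An orthogonal element inverted by a symmetric permutation. -/
theorem exists_plus_out {w : Equiv.Perm (Fin (dim m))} (hw : revConj w = w) {i j : Fin (dim m)}
    (hij : (j : ℕ) = i + 1) (hj : j < j.rev) (hd : w j < w i ∨ w (mid m j) < w (mid m i)) :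
    ∃ v ∈ UPlus m F, v ∈ outPart w⁻¹ ∧ v ≠ 1 := by
  have hlt : i < j := Fin.lt_def.2 (by omega)
  have hji : j.rev < i.rev := Fin.rev_lt_rev.2 hlt
  have hne : j ≠ i.rev := (hj.trans hji).ne
  have hmem : rootPair (F := F) hlt.ne ∈ UPlus m F := ⟨rootPair_unitri hlt, rootPair_mem_OGrp hlt hj⟩
  have hout : ∀ x : Equiv.Perm (Fin (dim m)), revConj x = x → x j < x i →
      rootPair (F := F) hlt.ne ∈ outPart x⁻¹ := by
    intro x hx hd
    refine mul_mem (xGL_mem_outPart hlt 1 (by simpa using hd)) (xGL_mem_outPart hji (-1) ?_)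
    rw [inv_inv, TwData.rev_comm hx, TwData.rev_comm hx, Fin.rev_lt_rev]
    exact hd
  rcases hd with hd | hd
  · exact ⟨_, hmem, hout w hw hd, rootPair_ne_one hlt.ne hne⟩
  · set P := permGL F (mid m)
    refine ⟨P * rootPair hlt.ne * P⁻¹, perm_conj_unitri_mid hmem, ?_, ?_⟩
    · have h := hout (w * mid m) (mul_mem (show w ∈ TwData.symPerm (dim m) from hw) mid_sym) hd
      rw [mem_outPart] at h ⊢
      refine ⟨(perm_conj_unitri_mid hmem).1, ?_⟩
      rw [← permGL_inv, inv_inv] at h ⊢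
      rw [show permGL F w * (P * rootPair hlt.ne * P⁻¹) * (permGL F w)⁻¹ =
        permGL F (w * mid m) * rootPair hlt.ne * (permGL F (w * mid m))⁻¹ by
          rw [permGL_mul]; simp only [P]; group]
      exact h.2
    · intro e
      refine rootPair_ne_one (F := F) hlt.ne hne ?_
      rw [show rootPair (F := F) hlt.ne = P⁻¹ * (P * rootPair hlt.ne * P⁻¹) * P by group, e]
      group

theorem rev_conj_unitri {z : GL (Fin (dim m)) F} (hz : z ∈ lowerGL (dim m) F)
    (hd : ∀ i, (z : Matrix (Fin (dim m)) (Fin (dim m)) F) i i = 1) :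
    (permGL F Fin.revPerm)⁻¹ * z * permGL F Fin.revPerm ∈ unitriGL (dim m) F := by
  refine mem_unitri.2 ⟨mem_upper.2 fun i j hij => ?_, fun i => ?_⟩
  · rw [perm_conj_apply]
    exact mem_lowerGL.1 hz _ _ (by simpa using hij)
  · rw [perm_conj_apply]
    exact hd _

theorem outPart_inf_mid_rev (π : Equiv.Perm (Fin (dim m))) (hπ : revConj π = π) {g : GL (Fin (dim m)) F}
    (hgO : g ∈ OGrp m F) (h1 : g ∈ outPart π) (h2 : g ∈ outPart (π * (mid m * Fin.revPerm))) : g = 1 := by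
  rw [mem_outPart] at h1 h2
  set z := (permGL F π)⁻¹ * g * permGL F π with hz
  set R := permGL F (Fin.revPerm : Equiv.Perm (Fin (dim m)))
  set P := permGL F (mid m)
  have hR : R⁻¹ = R := perm_rev_inv
  have hP : P⁻¹ = P := by rw [permGL_inv, mid_inv]
  have hRP : R * P = P * R := by rw [← permGL_mul, ← permGL_mul, rev_mid_comm]
  have hdiag : ∀ i, (z : Matrix (Fin (dim m)) (Fin (dim m)) F) i i = 1 := fun i => by
    rw [hz, perm_conj_apply]; exact (mem_unitri.1 h1.1).2 _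
  have hzO : z ∈ OGrp m F := mul_mem (mul_mem (inv_mem (permGL_mem_OGrp hπ)) hgO) (permGL_mem_OGrp hπ)
  have hRO : R ∈ OGrp m F := permGL_mem_OGrp TwData.rev_mem_symPerm
  have hz' : R⁻¹ * z * R ∈ UPlus m F :=
    ⟨rev_conj_unitri h1.2 hdiag, (OGrp m F).mul_mem ((OGrp m F).mul_mem ((OGrp m F).inv_mem hRO) hzO) hRO⟩
  have hA := (perm_conj_unitri_mid hz').1
  have hRPR : R * P * R = P := by
    have hRR : R * R = 1 := by nth_rewrite 1 [← hR]; rw [inv_mul_cancel]
    rw [hRP, mul_assoc, hRR, mul_one]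
  have e1 : P⁻¹ * z * P = R * (P * (R⁻¹ * z * R) * P⁻¹) * R⁻¹ := by
    rw [hP, hR]
    calc P * z * P = (R * P * R) * z * (R * P * R) := by rw [hRPR]
      _ = _ := by simp only [mul_assoc]
  have hlow : P⁻¹ * z * P ∈ lowerGL (dim m) F := by
    rw [e1]
    refine mem_lowerGL.2 fun i j hij => ?_
    rw [show R * (P * (R⁻¹ * z * R) * P⁻¹) * R⁻¹ = R⁻¹ * (P * (R⁻¹ * z * R) * P⁻¹) * R by rw [hR], perm_conj_apply]
    exact mem_upper.1 (mem_unitri.1 hA).1 _ _ (by simpa using hij)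
  have hup : P⁻¹ * z * P ∈ upperTriangularGL (dim m) F := by
    have h := h2.2
    rw [show (permGL F (π * (mid m * Fin.revPerm)))⁻¹ * g * permGL F (π * (mid m * Fin.revPerm)) =
      R⁻¹ * (P⁻¹ * z * P) * R by rw [permGL_mul, permGL_mul, hz]; simp only [R, P]; group] at h
    refine mem_upper.2 fun i j hij => ?_
    have := mem_lowerGL.1 h i.rev j.rev (Fin.rev_lt_rev.2 hij)
    rw [perm_conj_apply] at this
    simpa using this
  have h1' := eq_one_of_triangular hup hlow (fun i => by rw [perm_conj_apply]; exact hdiag _)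
  have hz1 : z = 1 := by
    rw [show z = P * (P⁻¹ * z * P) * P⁻¹ by group, h1']; group
  rw [show g = permGL F π * z * (permGL F π)⁻¹ by rw [hz]; group, hz1]
  group

theorem outPart_full {w : Equiv.Perm (Fin (dim m))} (hw : w = Fin.revPerm ∨ w = Fin.revPerm * mid m)
    {u : GL (Fin (dim m)) F} (hu : u ∈ UPlus m F) : u ∈ outPart w⁻¹ := by
  rcases hw with rfl | rfl
  · rw [TwData.outPart_rev]; exact hu.1
  · refine mem_outPart.2 ⟨hu.1, mem_lowerGL.2 fun i j hij => ?_⟩
    have h := (perm_conj_unitri_mid hu).1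
    rw [show (permGL F (Fin.revPerm * mid m)⁻¹)⁻¹ * u * permGL F (Fin.revPerm * mid m)⁻¹ =
      (permGL F Fin.revPerm)⁻¹ * (permGL F (mid m) * u * (permGL F (mid m))⁻¹) * permGL F Fin.revPerm by
        rw [← permGL_inv, inv_inv, permGL_mul, _root_.mul_inv_rev, perm_rev_inv]; group, perm_conj_apply]
    exact mem_upper.1 (mem_unitri.1 h).1 _ _ (by simpa using hij)

theorem gl_unique {u u' h h' v v' : GL (Fin (dim m)) F} {w w' : Equiv.Perm (Fin (dim m))}
    (hu : u ∈ unitriGL (dim m) F) (hu' : u' ∈ unitriGL (dim m) F) (hh : h ∈ torus (dim m) F)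
    (hh' : h' ∈ torus (dim m) F) (hv : v ∈ outPart w⁻¹) (hv' : v' ∈ outPart w'⁻¹)
    (e : u * h * permGL F w * v = u' * h' * permGL F w' * v') : w = w' ∧ u = u' ∧ h = h' ∧ v = v' :=
  (gl m F).unique hu hu' hh hh' hv hv' (by rwa [gl_n, gl_n])

variable (m F) in
/-- The Tits system of type D. -/
noncomputable def plusAmb : Tits.Ambient ↥(GPlus m F) ↥(WPlus m) where
  U := (UPlus m F).subgroupOf _
  H := (HPlus m F).subgroupOf _
  n w := ⟨permGL F w.1, permGL_mem_GPlus w.2⟩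
  Uw w := (outPart w.1⁻¹ ⊓ OGrp m F).subgroupOf _
  exists_eq := by
    rintro ⟨g, hg⟩
    obtain ⟨u, hu, h, hh, w, hw, v, hv, rfl⟩ := GPlus_nf hg
    exact ⟨⟨u, UPlus_le hu⟩, hu, ⟨h, HPlus_le hh⟩, hh, ⟨w, hw⟩,
      ⟨v, UPlus_le ⟨(mem_outPart.1 hv.1).1, hv.2⟩⟩, hv, rfl⟩
  unique {u u' h h' v v' w w'} hu hu' hh hh' hv hv' e := by
    obtain ⟨h1, h2, h3, h4⟩ := gl_unique hu.1 hu'.1 hh.1 hh'.1 hv.1 hv'.1 (congrArg Subtype.val e :)
    exact ⟨Subtype.ext h1, Subtype.ext h2, Subtype.ext h3, Subtype.ext h4⟩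
  S := {s | (s : Equiv.Perm (Fin (dim m))) ∈ SPlus m}
  closure_S := by
    refine eq_top_iff.2 fun x _ => ?_
    obtain ⟨w, hw⟩ := x
    have hmap : (Subgroup.closure {s : ↥(WPlus m) | (s : Equiv.Perm (Fin (dim m))) ∈ SPlus m}).map
        (WPlus m).subtype = WPlus m := by
      rw [MonoidHom.map_closure]
      refine congrArg Subgroup.closure (Set.ext fun s => ?_)
      exact ⟨by rintro ⟨x, hx, rfl⟩; exact hx, fun hs => ⟨⟨s, Subgroup.subset_closure hs⟩, hs, rfl⟩⟩
    obtain ⟨y, hy, e⟩ := hmap.ge hw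
    rwa [← show y = (⟨w, hw⟩ : ↥(WPlus m)) from Subtype.ext e]
  sq_S s hs := Subtype.ext (SPlus_sq hs)
  n_one := Subtype.ext permGL_one
  n_mul a b := ⟨1, one_mem _, Subtype.ext (by
    show permGL F a.1 * permGL F b.1 = 1 * permGL F (a * b).1
    rw [one_mul, ← permGL_mul]; rfl)⟩
  n_conj_H w h hh := perm_conj_torus_mid hh (WPlus_le_sym w.2)
  H_conj_U h hh u hu :=
    ⟨torus_conj_unitri hh.1 hu.1, (OGrp m F).mul_mem ((OGrp m F).mul_mem hh.2 hu.2) ((OGrp m F).inv_mem hh.2)⟩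
  Uw_le w v hv := ⟨(mem_outPart.1 hv.1).1, hv.2⟩
  Uw_one := by
    rw [Subgroup.eq_bot_iff_forall]
    intro g hg
    have h := (gl m F).Uw_one
    rw [gl_Uw] at h
    have h' : (g : GL (Fin (dim m)) F) ∈ (⊥ : Subgroup (GL (Fin (dim m)) F)) := h ▸ hg.1
    exact Subtype.ext (Subgroup.mem_bot.1 h')
  Uw_S_ne s hs := by
    obtain ⟨d, hd, e⟩ := hs
    obtain ⟨i, j, hij, hj, rfl⟩ := hd
    have hlt : i < j := Fin.lt_def.2 (by omega)
    have hji : j.rev < i.rev := Fin.rev_lt_rev.2 hlt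
    set d := Equiv.swap i j * Equiv.swap j.rev i.rev
    have hdi : d j < d i := by
      simp only [d, Equiv.Perm.mul_apply]
      rw [Equiv.swap_apply_of_ne_of_ne hj.ne (hj.trans hji).ne,
        Equiv.swap_apply_of_ne_of_ne (hlt.trans hj).ne ((hlt.trans hj).trans hji).ne,
        Equiv.swap_apply_right, Equiv.swap_apply_left]
      exact hlt
    have hdm : mid m (d j) < mid m (d i) ∨ True := Or.inr trivial
    obtain ⟨v, hv, hvw, hv1⟩ := exists_plus_out (F := F) (WPlus_le_sym s.2) hij hj (by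
      rcases e with e | e
      · left; rw [e]; exact hdi
      · right
        rw [e]
        simp only [Equiv.Perm.mul_apply]
        rw [← Equiv.Perm.mul_apply (mid m) (mid m), ← Equiv.Perm.mul_apply (mid m) (mid m), mid_sq,
          Equiv.Perm.one_apply, Equiv.Perm.one_apply, show d j = i by
            simp only [d, Equiv.Perm.mul_apply]
            rw [Equiv.swap_apply_of_ne_of_ne hj.ne (hj.trans hji).ne, Equiv.swap_apply_right],
          show d i = j by
            simp only [d, Equiv.Perm.mul_apply]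
            rw [Equiv.swap_apply_of_ne_of_ne (hlt.trans hj).ne ((hlt.trans hj).trans hji).ne,
              Equiv.swap_apply_left]]
        have hjm : (j : ℕ) ≤ m := by
          rw [Fin.lt_def, Fin.val_rev] at hj
          simp only [dim] at *
          omega
        rw [mid_of_ne (x := i) (by omega) (by omega)]
        by_cases h : (j : ℕ) = m
        · rw [mid_of_eq h, Fin.lt_def, midA_rev_val]; omega
        · rw [mid_of_ne h (by omega)]; exact hlt)
    intro hbot
    have : (⟨v, UPlus_le hv⟩ : ↥(GPlus m F)) ∈ (⊥ : Subgroup ↥(GPlus m F)) := hbot ▸ ⟨hvw, hv.2⟩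
    exact hv1 (congrArg Subtype.val (Subgroup.mem_bot.1 this))
  cell_step s hs u hu w := by
    obtain ⟨x, hx, u', hu', h', hh', v', hv', e⟩ := plus_step (F := F) hs hu (WPlus_le_sym w.2)
    have hv'' : v' ∈ UPlus m F := ⟨(mem_outPart.1 hv'.1).1, hv'.2⟩
    rcases hx with rfl | rfl
    · exact Or.inl ⟨⟨u', UPlus_le hu'⟩, hu', ⟨h', HPlus_le hh'⟩, hh', ⟨v', UPlus_le hv''⟩, hv'', 1,
        one_mem _, Subtype.ext (e.trans (by simp))⟩
    · exact Or.inr ⟨⟨u', UPlus_le hu'⟩, hu', ⟨h', HPlus_le hh'⟩, hh', ⟨v', UPlus_le hv''⟩, hv'', 1,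
        one_mem _, Subtype.ext (e.trans (by simp))⟩

theorem mid_not_mem_GPlus : permGL F (mid m) ∉ GPlus m F := by
  intro h
  obtain ⟨u, hu, k, hk, w, hw, v, hv, e⟩ := GPlus_nf h
  have := gl_unique (F := F) (one_mem _) hu.1 (one_mem _) hk.1 (one_mem (outPart (mid m)⁻¹)) hv.1
    (by simpa using e)
  exact mid_not_mem (this.1 ▸ hw)

theorem GPlus_index : ((GPlus m F).subgroupOf (OGrp m F)).index = 2 := by
  have hPO : permGL F (mid m) ∈ OGrp m F := permGL_mem_OGrp mid_sym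
  rw [Subgroup.index_eq_two_iff]
  refine ⟨⟨permGL F (mid m), hPO⟩, fun b => ?_⟩
  obtain ⟨g, hg⟩ := b
  simp only [Subgroup.mem_subgroupOf, Subgroup.coe_mul]
  set P := permGL F (mid m)
  have hP : P * P = 1 := by rw [← permGL_mul, mid_sq, permGL_one]
  have hboth : ¬ (g * P ∈ GPlus m F ∧ g ∈ GPlus m F) := fun h => mid_not_mem_GPlus (m := m) (F := F) (by
    have := mul_mem (inv_mem h.2) h.1
    rwa [inv_mul_cancel_left] at this)
  have hone : g * P ∈ GPlus m F ∨ g ∈ GPlus m F := by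
    obtain ⟨u, hu, h, hh, w, v, hv, e⟩ := (gl m F).exists_eq g
    rw [gl_n] at e
    rw [e] at hg
    obtain ⟨hw, hu', hh', hv'⟩ := split_nf hu hh hv hg
    have hvU : v ∈ UPlus m F := ⟨(mem_outPart.1 hv).1, hv'⟩
    rcases sym_cases (show w ∈ TwData.symPerm (dim m) from hw) with h1 | h1
    · right
      rw [e]
      exact mul_mem (mul_mem (mul_mem (UPlus_le ⟨hu, hu'⟩) (HPlus_le ⟨hh, hh'⟩)) (permGL_mem_GPlus h1))
        (UPlus_le hvU)
    · left
      rw [e, show u * h * permGL F w * v * P = u * h * permGL F (w * mid m) * (P * v * P⁻¹) by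
        rw [permGL_mul, show P⁻¹ = P from inv_eq_of_mul_eq_one_right hP]
        simp only [P, mul_assoc]
        rw [← mul_assoc (permGL F (mid m)) (permGL F (mid m)), hP, one_mul]]
      exact mul_mem (mul_mem (mul_mem (UPlus_le ⟨hu, hu'⟩) (HPlus_le ⟨hh, hh'⟩)) (permGL_mem_GPlus h1))
        (UPlus_le (perm_conj_unitri_mid hvU))
  rcases hone with h | h
  · exact Or.inl ⟨h, fun h' => hboth ⟨h, h'⟩⟩
  · exact Or.inr ⟨h, fun h' => hboth ⟨h', h⟩⟩

variable (m F) in
/-- The Steinberg character of the central quotient of a normal subgroup containing the orthogonal unitriangular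
elements. -/
theorem plus_steinberg (p : ℕ) [Fact p.Prime] [CharP F p] (N : Subgroup ↥(GPlus m F)) [N.Normal]
    (hN : (UPlus m F).subgroupOf (GPlus m F) ≤ N) {Q : Type*} [Group Q] (e : Q ≃* ↥N ⧸ Subgroup.center ↥N) :
    ∃ χ : Q → ℂ, Cfsg.IsIrrCharacter Q χ ∧ ∀ P : Sylow p Q, χ 1 = Nat.card P ∧
      ∀ x : Q, x ∈ P → x ≠ 1 → χ x = 0 := by
  cases nonempty_fintype F
  have hex : ∃ w₀ : ↥(WPlus m), w₀.1 = Fin.revPerm ∨ w₀.1 = Fin.revPerm * mid m := by
    rcases sym_cases (TwData.rev_mem_symPerm : Fin.revPerm ∈ TwData.symPerm (dim m)) with h | h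
    exacts [⟨⟨_, h⟩, Or.inl rfl⟩, ⟨⟨_, h⟩, Or.inr rfl⟩]
  obtain ⟨w₀, hw₀⟩ := hex
  have hfull : (plusAmb m F).Uw w₀ = (plusAmb m F).U :=
    le_antisymm ((plusAmb m F).Uw_le _) fun u hu => ⟨outPart_full hw₀ hu, hu.2⟩
  refine Cfsg.Agent.H83.Classical.steinberg (plusAmb m F) (hU := hN) (p := p) (w₀ := w₀) hfull ?_ ?_ ?_ ?_ e
  · intro s hs
    obtain ⟨⟨v, hv⟩, hv1⟩ := Subgroup.ne_bot_iff_exists_ne_one.1 ((plusAmb m F).Uw_S_ne s hs)
    have hv1' : v ≠ 1 := fun e => hv1 (Subtype.ext e)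
    have hvU := (plusAmb m F).Uw_le s hv
    refine (Subgroup.card_le_of_le ((plusAmb m F).Uw_le _)).lt_of_ne fun e => ?_
    have heq := Subgroup.eq_of_le_of_card_ge ((plusAmb m F).Uw_le _) e.ge
    rw [← heq] at hvU
    have h1 : (v : GL (Fin (dim m)) F) ∈ outPart (F := F) (s.1)⁻¹ := hv.1
    have h2 : (v : GL (Fin (dim m)) F) ∈ outPart (F := F) (w₀.1 * s.1)⁻¹ := hvU.1
    rw [_root_.mul_inv_rev, SPlus_inv hs] at h2
    rw [SPlus_inv hs] at h1
    refine hv1' (Subtype.ext ?_)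
    rcases hw₀ with h | h <;> rw [h] at h2
    · rw [show (Fin.revPerm : Equiv.Perm (Fin (dim m)))⁻¹ = Fin.revPerm from Equiv.Perm.inv_def _] at h2
      exact TwData.outPart_inf_rev _ h1 h2
    · rw [_root_.mul_inv_rev, mid_inv,
        show (Fin.revPerm : Equiv.Perm (Fin (dim m)))⁻¹ = Fin.revPerm from Equiv.Perm.inv_def _] at h2
      exact outPart_inf_mid_rev _ (WPlus_le_sym s.2) hv.2 h1 h2
  · have h1 : IsPGroup p ↥(UPlus m F) := (isPGroup_unitriGL (n := dim m) (F := F) p).to_le inf_le_left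
    exact h1.comap_subtype
  · intro h
    refine TwData.not_dvd_card_torus (n := dim m) (F := F) p (h.trans ?_)
    rw [← Subgroup.card_map_of_injective (f := (GPlus m F).subtype) (GPlus m F).subtype_injective]
    exact Subgroup.card_dvd_of_le ((Subgroup.map_le_iff_le_comap.2 le_rfl).trans inf_le_left)
  · intro w hw
    obtain ⟨i, j, hij, hj, hd⟩ := exists_root w.2 (fun e => hw (Subtype.ext e))
    obtain ⟨v, hv, hvw, hv1⟩ := exists_plus_out (F := F) (WPlus_le_sym w.2) hij hj hd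
    intro hbot
    have : (⟨v, UPlus_le hv⟩ : ↥(GPlus m F)) ∈ (⊥ : Subgroup ↥(GPlus m F)) := hbot ▸ ⟨hvw, hv.2⟩
    exact hv1 (congrArg Subtype.val (Subgroup.mem_bot.1 this))

end Cfsg.Agent.H83.Classical.OPlus
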