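import Cfsg.Agent.H83.Classical.Twisted

/-!
The fixed group of a twist as the group of a form; central quotients of isomorphic groups.
-/

set_option autoImplicit false
set_option linter.unusedFintypeInType false

namespace Cfsg.Agent.H83.Classical

open Matrix Cfsg.Agent.Linear Cfsg.Agent.H54 Cfsg.Agent.H52 Cfsg.Agent.H52.TwistedBruhat

variable {n : ℕ} {F : Type*} [Field F]

/-- The matrix of the form of a twist. -/
def formMat (e : Fin n → Fˣ) : Matrix (Fin n) (Fin n) F :=
  Matrix.of fun i j => if i = j.rev then (e i : F) else 0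

theorem formMat_eq (e : Fin n → Fˣ) :
    formMat e = ((diagGL e * permGL F Fin.revPerm : GL (Fin n) F) : Matrix (Fin n) (Fin n) F) := by
  ext i j
  rw [Units.val_mul, diagGL_coe, Matrix.diagonal_mul, permGL_apply, formMat, Matrix.of_apply,
    Fin.revPerm_apply]
  split_ifs <;> simp

theorem perm_rev_inv : (permGL F (Fin.revPerm : Equiv.Perm (Fin n)))⁻¹ = permGL F Fin.revPerm := by
  rw [permGL_inv]
  congr 1

/-- The fixed points are the matrices preserving the form. -/
theorem TwData.Θ_eq_self_iff (T : TwData n F) (g : GL (Fin n) F) :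
    T.Θ g = g ↔ (g : Matrix (Fin n) (Fin n) F) * formMat T.e *
      ((g : Matrix (Fin n) (Fin n) F).map T.σ)ᵀ = formMat T.e := by
  set K : GL (Fin n) F := diagGL T.e * permGL F Fin.revPerm
  have h1 : T.Θ g = K * Twist.tw T.σ g * K⁻¹ := by
    rw [T.Θ_eq, theta, MonoidHom.comp_apply, MulEquiv.coe_toMonoidHom, MulAut.conj_apply, inv_inv,
      perm_rev_inv]
    simp only [K, _root_.mul_inv_rev, perm_rev_inv]
    group
  have ht : ((g : Matrix (Fin n) (Fin n) F).map T.σ)ᵀ = ((Twist.tw T.σ g)⁻¹ : GL (Fin n) F).val := rfl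
  rw [h1, formMat_eq, ht, ← Units.val_mul, ← Units.val_mul, Units.val_inj,
    mul_inv_eq_iff_eq_mul, mul_inv_eq_iff_eq_mul]
  exact ⟨fun h => h.symm, fun h => h.symm⟩

/-- Isomorphic groups have isomorphic central quotients. -/
noncomputable def centerQuot {A B : Type*} [Group A] [Group B] (φ : A ≃* B) :
    A ⧸ Subgroup.center A ≃* B ⧸ Subgroup.center B :=
  QuotientGroup.congr _ _ φ (by
    ext b
    constructor
    · rintro ⟨a, ha, rfl⟩
      refine Subgroup.mem_center_iff.2 fun x => ?_
      have h := congrArg φ (Subgroup.mem_center_iff.1 ha (φ.symm x))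
      simpa using h
    · intro hb
      refine ⟨φ.symm b, Subgroup.mem_center_iff.2 fun x => ?_, φ.apply_symm_apply b⟩
      have h := congrArg φ.symm (Subgroup.mem_center_iff.1 hb (φ x))
      simpa using h)

end Cfsg.Agent.H83.Classical
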