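import Cfsg.Prelude.Def_Classical
import Cfsg.Agent.H83.Classical.Forms

/-!
The Steinberg character of the projective symplectic groups.
-/

set_option autoImplicit false
set_option linter.unusedFintypeInType false
set_option linter.deprecated false

namespace Cfsg.Agent.H83.Classical.Symp

open Matrix Cfsg.Agent.Linear Cfsg.Agent.H52.TwistedBruhat

variable (m : ℕ) (F : Type*) [Field F]

/-- The signs of the alternating antidiagonal form. -/
def eSign (i : Fin (m + m)) : Fˣ := if (i : ℕ) < m then -1 else 1

variable {m F}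

theorem eSign_rev (i : Fin (m + m)) : eSign m F i.rev = -eSign m F i := by
  have := i.isLt
  unfold eSign
  rw [Fin.val_rev]
  split_ifs <;> first | omega | simp

theorem eSign_sq (i : Fin (m + m)) : eSign m F i * eSign m F i = 1 := by
  unfold eSign
  split_ifs <;> simp

theorem eSign_inv (i : Fin (m + m)) : (eSign m F i)⁻¹ = eSign m F i :=
  inv_eq_of_mul_eq_one_right (eSign_sq i)

theorem eSign_ne_zero (i : Fin (m + m)) : (eSign m F i : F) ≠ 0 := (eSign m F i).ne_zero

variable (m F)

/-- The twist data of the symplectic group. -/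
def data : TwData (m + m) F where
  σ := RingHom.id F
  e := eSign m F
  f w i := if (i : ℕ) < m then eSign m F i * eSign m F (w⁻¹ i) else 1
  hσ _ := rfl
  he i j := by
    rw [eSign_rev, eSign_rev, RingHom.id_apply, Units.val_neg, Units.val_neg, neg_div_neg_eq]
    have h1 := eSign_ne_zero (F := F) i
    have h2 := eSign_ne_zero (F := F) j
    field_simp
  f_one := by
    funext i
    simp [eSign_sq]
  hf w hw i := by
    rw [RingHom.id_apply, Fin.val_rev]
    have := i.isLt
    have hw' : revConj w⁻¹ = w⁻¹ := by rw [TwData.revConj_inv, hw]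
    by_cases h : (i : ℕ) < m
    · rw [if_neg (by omega), if_pos h, Units.val_one, inv_one, one_mul, Units.val_mul,
        ← Units.val_inv_eq_inv_val, eSign_inv]
    · rw [if_pos (by omega), if_neg h, TwData.rev_comm hw', eSign_rev, eSign_rev, neg_mul_neg,
        ← Units.val_inv_eq_inv_val, ← Units.val_inv_eq_inv_val, ← Units.val_mul, ← Units.val_mul,
        _root_.mul_inv_rev, eSign_inv, eSign_inv]
      congr 1
      rw [mul_assoc (eSign m F (w⁻¹ i)), eSign_sq, mul_one, eSign_sq]
  mid_even i j hij h := by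
    refine ⟨1, one_ne_zero, ?_⟩
    rw [h, eSign_rev, RingHom.id_apply, Units.val_neg]
    have h1 := eSign_ne_zero (F := F) i
    field_simp
  mid_odd i j k hij h hk := by
    rw [Fin.ext_iff, Fin.val_rev] at h
    have := j.isLt
    omega

/-- The reordering of the standard basis. -/
def idx : Fin m ⊕ Fin m ≃ Fin (m + m) :=
  (Equiv.sumCongr (Equiv.refl _) Fin.revPerm).trans finSumFinEquiv

theorem formMat_idx : (formMat (eSign m F)).submatrix (idx m) (idx m) =
    Matrix.fromBlocks 0 (-1) 1 0 := by
  ext (i | i) (j | j) <;>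
    simp only [idx, submatrix_apply, formMat, of_apply, Equiv.trans_apply, Equiv.sumCongr_apply,
      Sum.map_inl, Sum.map_inr, Equiv.refl_apply, Fin.revPerm_apply, finSumFinEquiv_apply_left,
      finSumFinEquiv_apply_right, Fin.ext_iff, Fin.val_rev, Fin.val_castAdd, Fin.val_natAdd, eSign,
      fromBlocks_apply₁₁, fromBlocks_apply₁₂, fromBlocks_apply₂₁, fromBlocks_apply₂₂, Matrix.zero_apply,
      Matrix.neg_apply, Matrix.one_apply] <;>
    (have := i.isLt; have := j.isLt; split_ifs <;> first | omega | simp)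

/-- The symplectic group as a fixed group. -/
noncomputable def toGrp : Matrix.symplecticGroup (Fin m) F →* GL (Fin (m + m)) F :=
  MonoidHom.toHomUnits
    ((reindexAlgEquiv F F (idx m)).toAlgHom.toRingHom.toMonoidHom.comp
      (Matrix.symplecticGroup (Fin m) F).subtype)

theorem toGrp_val (A : Matrix.symplecticGroup (Fin m) F) :
    (toGrp m F A : Matrix (Fin (m + m)) (Fin (m + m)) F) =
      reindexAlgEquiv F F (idx m) (A : Matrix (Fin m ⊕ Fin m) (Fin m ⊕ Fin m) F) := rfl

theorem range_toGrp : (toGrp m F).range = (data m F).Grp := by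
  have key : ∀ (A : Matrix (Fin m ⊕ Fin m) (Fin m ⊕ Fin m) F) (g : Matrix (Fin (m + m)) (Fin (m + m)) F),
      g = reindexAlgEquiv F F (idx m) A →
      (g * formMat (data m F).e * (g.map (data m F).σ)ᵀ = formMat (data m F).e ↔
        A ∈ Matrix.symplecticGroup (Fin m) F) := by
    rintro A _ rfl
    rw [SymplecticGroup.mem_iff]
    have hf : formMat (data m F).e = reindexAlgEquiv F F (idx m) (Matrix.J (Fin m) F) := by
      rw [reindexAlgEquiv_apply]
      refine (Equiv.symm_apply_eq (Matrix.reindex (idx m) (idx m))).1 ?_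
      rw [Matrix.reindex_symm, Matrix.reindex_apply, Equiv.symm_symm]
      exact formMat_idx m F
    have ht : ((reindexAlgEquiv F F (idx m) A).map (data m F).σ)ᵀ = reindexAlgEquiv F F (idx m) Aᵀ := by
      ext i j
      rfl
    rw [hf, ht, ← map_mul, ← map_mul, EmbeddingLike.apply_eq_iff_eq]
  ext g
  rw [MonoidHom.mem_range]
  show _ ↔ (data m F).Θ g = g
  rw [TwData.Θ_eq_self_iff]
  constructor
  · rintro ⟨A, rfl⟩
    exact (key _ _ (toGrp_val m F A)).2 A.2
  · intro h
    have hg : (g : Matrix (Fin (m + m)) (Fin (m + m)) F) = reindexAlgEquiv F F (idx m)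
        ((reindexAlgEquiv F F (idx m)).symm g) := (AlgEquiv.apply_symm_apply _ _).symm
    exact ⟨⟨_, (key _ _ hg).1 h⟩, Units.ext ((toGrp_val m F _).trans hg.symm)⟩

theorem toGrp_injective : Function.Injective (toGrp m F) := fun _ _ h =>
  Subtype.ext ((reindexAlgEquiv F F (idx m)).injective (congrArg Units.val h :))

theorem steinberg [Fintype F] (p : ℕ) [Fact p.Prime] [CharP F p] :
    ∃ χ : Cfsg.PSp m F → ℂ, Cfsg.IsIrrCharacter (Cfsg.PSp m F) χ ∧
      ∀ P : Sylow p (Cfsg.PSp m F), χ 1 = Nat.card P ∧ ∀ x : Cfsg.PSp m F, x ∈ P → x ≠ 1 → χ x = 0 :=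
  (data m F).steinberg p ⊤ le_top
    (centerQuot (((MonoidHom.ofInjective (toGrp_injective m F)).trans
      (MulEquiv.subgroupCongr (range_toGrp m F))).trans Subgroup.topEquiv.symm))

end Cfsg.Agent.H83.Classical.Symp
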