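import Cfsg.Prelude.Def_Classical
import Cfsg.Agent.H83.Classical.OPlusAmbient
import Cfsg.Agent.H83.Classical.Symplectic
import Cfsg.Agent.Orthogonal.StdForms
import Cfsg.Agent.Orthogonal.Dickson
import Cfsg.Agent.Orthogonal.Index2Iso
import Cfsg.Agent.Orthogonal.Spinor

/-!
The Steinberg character of the projective orthogonal groups of plus type, outside dimension four over the field
of two elements.
-/

set_option autoImplicit false
set_option linter.unusedFintypeInType false
set_option linter.unusedSectionVars false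
set_option linter.deprecated false
set_option linter.style.haveILetI false

namespace Cfsg.Agent.H83.Classical.OPlus

open Cfsg Matrix Cfsg.Agent.Linear Cfsg.Agent.Orthogonal

variable {m : ℕ} {F : Type*} [Field F]

theorem qPlus_comp_idx (v : Fin (dim m) → F) :
    Cfsg.quadFormPlus (m + 1) F (v ∘ Symp.idx (m + 1)) = qPlus v := by
  refine Finset.sum_congr rfl fun i _ => ?_
  have h1 : Symp.idx (m + 1) (Sum.inl i) = Fin.castAdd (m + 1) i := by simp [Symp.idx]
  have h2 : Symp.idx (m + 1) (Sum.inr i) = (Fin.castAdd (m + 1) i).rev := by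
    apply Fin.ext
    simp [Symp.idx, Fin.val_rev]
    omega
  simp only [Function.comp_apply, h1, h2]

variable (m F) in
/-- The reordering isomorphism of the general linear groups. -/
noncomputable def reGL : GL (Fin (m + 1) ⊕ Fin (m + 1)) F ≃* GL (Fin (dim m)) F :=
  Units.mapEquiv (reindexAlgEquiv F F (Symp.idx (m + 1))).toMulEquiv

theorem reGL_mulVec (g : GL (Fin (m + 1) ⊕ Fin (m + 1)) F) (x : Fin (dim m) → F) :
    (reGL m F g : Matrix (Fin (dim m)) (Fin (dim m)) F) *ᵥ x =
      ((g : Matrix (Fin (m + 1) ⊕ Fin (m + 1)) (Fin (m + 1) ⊕ Fin (m + 1)) F) *ᵥ (x ∘ Symp.idx (m + 1))) ∘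
        (Symp.idx (m + 1)).symm :=
  Matrix.submatrix_mulVec_equiv _ x _ _

theorem map_isometry : (Cfsg.isometryGroup F (Cfsg.quadFormPlus (m + 1) F)).map (reGL m F).toMonoidHom =
    OGrp m F := by
  have key : ∀ (g : GL (Fin (m + 1) ⊕ Fin (m + 1)) F) (x : Fin (dim m) → F),
      qPlus ((reGL m F g : Matrix (Fin (dim m)) (Fin (dim m)) F) *ᵥ x) =
        Cfsg.quadFormPlus (m + 1) F
          ((g : Matrix (Fin (m + 1) ⊕ Fin (m + 1)) (Fin (m + 1) ⊕ Fin (m + 1)) F) *ᵥ (x ∘ Symp.idx (m + 1))) := by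
    intro g x
    rw [← qPlus_comp_idx, reGL_mulVec, Function.comp_assoc, Equiv.symm_comp_self, Function.comp_id]
  ext k
  obtain ⟨g, rfl⟩ := (reGL m F).surjective k
  rw [show reGL m F g = (reGL m F).toMonoidHom g from rfl, Subgroup.mem_map_iff_mem (f := (reGL m F).toMonoidHom) (reGL m F).injective]
  constructor
  · intro h x _
    show qPlus ((reGL m F g : Matrix (Fin (dim m)) (Fin (dim m)) F) *ᵥ x) = qPlus x
    rw [key, ← qPlus_comp_idx]
    exact h _ (x ∘ Symp.idx (m + 1))
  · intro h v _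
    show Cfsg.quadFormPlus (m + 1) F
      ((g : Matrix (Fin (m + 1) ⊕ Fin (m + 1)) (Fin (m + 1) ⊕ Fin (m + 1)) F) *ᵥ v) = _
    have h' : ∀ x, qPlus ((reGL m F g : Matrix (Fin (dim m)) (Fin (dim m)) F) *ᵥ x) = qPlus x := fun x => h x x
    have := h' (v ∘ (Symp.idx (m + 1)).symm)
    rwa [key, ← qPlus_comp_idx, Function.comp_assoc, Equiv.symm_comp_self, Function.comp_id] at this

variable (m F) in
/-- The orthogonal group as an antidiagonal one. -/
noncomputable def isoO : Cfsg.isometryGroup F (Cfsg.quadFormPlus (m + 1) F) →* GL (Fin (dim m)) F :=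
  (reGL m F).toMonoidHom.comp (Cfsg.isometryGroup F (Cfsg.quadFormPlus (m + 1) F)).subtype

theorem isoO_injective : Function.Injective (isoO m F) :=
  (reGL m F).injective.comp Subtype.val_injective

theorem range_isoO : (isoO m F).range = OGrp m F := by
  rw [isoO, MonoidHom.range_comp, Subgroup.range_subtype, map_isometry]

variable [Finite F]

theorem GPlus_comap_index : ((GPlus m F).comap (isoO m F)).index = 2 := by
  rw [Subgroup.index_comap, range_isoO]
  exact GPlus_index

theorem omega_le_GPlus : (Cfsg.Omega F (Cfsg.quadFormPlus (m + 1) F)).map (isoO m F) ≤ GPlus m F :=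
  Subgroup.map_le_iff_le_comap.2 (commutator_le_of_index_two _ GPlus_comap_index)

theorem UPlus_le_omega_odd (p : ℕ) [hp : Fact p.Prime] [CharP F p] (h2 : (2 : F) ≠ 0) :
    UPlus m F ≤ (Cfsg.Omega F (Cfsg.quadFormPlus (m + 1) F)).map (isoO m F) := by
  cases nonempty_fintype F
  intro g hg
  obtain ⟨h, rfl⟩ : g ∈ (isoO m F).range := by rw [range_isoO]; exact hg.2
  obtain ⟨k, hk⟩ := IsPGroup.iff_orderOf.mp (isPGroup_unitriGL (n := dim m) (F := F) p) ⟨_, hg.1⟩
  rw [Subgroup.orderOf_mk, orderOf_injective _ isoO_injective] at hk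
  have hp2 : Odd p := hp.out.odd_of_ne_two fun e => h2 (by
    have h := CharP.cast_eq_zero F p
    rw [e] at h
    exact_mod_cast h)
  obtain ⟨j, hj⟩ := hp2.pow (n := k)
  refine ⟨h, ?_, rfl⟩
  have hsq : h = h ^ (j + 1) * h ^ (j + 1) := by
    rw [← pow_add, show j + 1 + (j + 1) = p ^ k + 1 by omega, pow_succ, ← hk, pow_orderOf_eq_one, one_mul]
  rw [hsq]
  have hs : ∀ g : Cfsg.isometryGroup F (⇑(formPlus F (m + 1))), g * g ∈ Cfsg.Omega F (⇑(formPlus F (m + 1))) := by
    intro g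
    rw [mem_omega_iff, mem_commutator_iff (formPlus_nondeg F (m + 1)) h2, map_mul, map_mul, map_mul]
    exact ⟨Int.units_mul_self _, Int.units_mul_self _⟩
  exact hs (h ^ (j + 1))

theorem UPlus_le_omega_two (h2 : (2 : F) = 0) (hgood : Nat.card F ≠ 2 ∨ m ≠ 1) :
    UPlus m F ≤ (Cfsg.Omega F (Cfsg.quadFormPlus (m + 1) F)).map (isoO m F) := by
  have hfr := finrank_formPlus F (m + 1)
  have hidx : (Cfsg.Omega F (Cfsg.quadFormPlus (m + 1) F)).index = 2 := by
    rw [← formPlus_coe, omega_index]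
    refine index_commutator_eq_two (formPlus_nondeg F (m + 1)) (reflGroup_eq_top (formPlus_nondeg F (m + 1)) ?_) h2
      (by omega)
    rcases hgood with h | h
    · exact Or.inl h
    · exact Or.inr (by omega)
  have hle : Cfsg.Omega F (Cfsg.quadFormPlus (m + 1) F) ≤ (GPlus m F).comap (isoO m F) :=
    Subgroup.map_le_iff_le_comap.1 omega_le_GPlus
  have heq : (GPlus m F).comap (isoO m F) ≤ Cfsg.Omega F (Cfsg.quadFormPlus (m + 1) F) := by
    have h := Subgroup.relIndex_mul_index hle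
    rw [hidx, GPlus_comap_index] at h
    exact Subgroup.relIndex_eq_one.1 (by omega)
  intro g hg
  obtain ⟨h, rfl⟩ : g ∈ (isoO m F).range := by rw [range_isoO]; exact hg.2
  exact ⟨h, heq (UPlus_le hg), rfl⟩

theorem steinberg_good [Fintype F] (p : ℕ) [hp : Fact p.Prime] [CharP F p]
    (hgood : (2 : F) ≠ 0 ∨ Nat.card F ≠ 2 ∨ m ≠ 1) :
    ∃ χ : Cfsg.POmega F (Cfsg.quadFormPlus (m + 1) F) → ℂ,
      Cfsg.IsIrrCharacter (Cfsg.POmega F (Cfsg.quadFormPlus (m + 1) F)) χ ∧
      ∀ P : Sylow p (Cfsg.POmega F (Cfsg.quadFormPlus (m + 1) F)), χ 1 = Nat.card P ∧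
        ∀ x : Cfsg.POmega F (Cfsg.quadFormPlus (m + 1) F), x ∈ P → x ≠ 1 → χ x = 0 := by
  set Ω := Cfsg.Omega F (Cfsg.quadFormPlus (m + 1) F) with hΩ
  set Ω' := Ω.map (isoO m F) with hΩ'
  let N : Subgroup ↥(GPlus m F) := Ω'.subgroupOf (GPlus m F)
  haveI : N.Normal := ⟨fun x hx g => by
    obtain ⟨a, ha, e⟩ := hx
    obtain ⟨b, hb⟩ : (g : GL (Fin (dim m)) F) ∈ (isoO m F).range := by
      rw [range_isoO]; exact GPlus_le_OGrp g.2
    refine ⟨b * a * b⁻¹, (inferInstance : Ω.Normal).conj_mem a ha b, ?_⟩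
    rw [map_mul, map_mul, map_inv, hb, e]
    rfl⟩
  have hU : UPlus m F ≤ Ω' := by
    by_cases h2 : (2 : F) = 0
    · exact UPlus_le_omega_two h2 (hgood.resolve_left (not_not.2 h2))
    · exact UPlus_le_omega_odd p h2
  exact plus_steinberg m F p N (fun u hu => hU hu)
    (centerQuot ((Ω.equivMapOfInjective (isoO m F) isoO_injective).trans
      (Subgroup.subgroupOfEquivOfLe omega_le_GPlus).symm))

end Cfsg.Agent.H83.Classical.OPlus
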