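import Cfsg.Prelude.Def_Classical
import Cfsg.Agent.H83.Classical.Forms
import Cfsg.Agent.H52.UnitaryTwoPSU

/-!
The Steinberg character of the projective special unitary groups.
-/

set_option autoImplicit false
set_option linter.unusedFintypeInType false
set_option linter.unusedSectionVars false
set_option linter.style.haveILetI false

namespace Cfsg.Agent.H83.Classical.Unit

open Cfsg Matrix Cfsg.Agent.Linear Cfsg.Agent.H54 Cfsg.Agent.H52 Cfsg.Agent.H52.TwistedBruhat
open Cfsg.Agent.Unitary

variable {F : Type*} [Field F] [Fintype F] {n q : ℕ}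

theorem exists_moved (hF : Fintype.card F = q ^ 2) : ∃ x : F, x ^ q ≠ x := by
  by_contra h
  push Not at h
  have htop : (powMonoidHom (q - 1) : Fˣ →* Fˣ).ker = ⊤ := by
    refine eq_top_iff.2 fun u _ => Units.ext ?_
    rw [powMonoidHom_apply, Units.val_pow_eq_pow_val]
    exact pow_sub_one_eq_one hF u.ne_zero (h u)
  have h1 := card_ker_pow_sub hF
  rw [htop, Subgroup.card_top, card_units hF] at h1
  have h2 := two_le_q hF
  obtain ⟨r, rfl⟩ : ∃ r, q = r + 2 := ⟨q - 2, by omega⟩
  rw [show r + 2 - 1 = r + 1 by omega] at h1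
  nlinarith

theorem exists_anti (hF : Fintype.card F = q ^ 2) : ∃ c : F, c ≠ 0 ∧ -(frob hF c) = c := by
  obtain ⟨x, hx⟩ := exists_moved hF
  refine ⟨x - x ^ q, sub_ne_zero.2 (Ne.symm hx), ?_⟩
  rw [frob_apply, sub_pow_q hF, pow_q_q hF]
  ring

/-- The twist data of the unitary group. -/
noncomputable def data (n : ℕ) (hF : Fintype.card F = q ^ 2) : TwData n F where
  σ := (frob hF).toRingHom
  e := 1
  f := 1
  hσ x := pow_q_q hF x
  he i j := by simp
  f_one := rfl
  hf w hw i := by simp
  mid_even i j hij h := by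
    obtain ⟨c, hc, e⟩ := exists_anti hF
    exact ⟨c, hc, by simpa using e⟩
  mid_odd i j k hij h hk := by
    obtain ⟨c, hc, e⟩ := exists_anti hF
    exact ⟨0, c, Or.inr hc, by simpa using e⟩

theorem data_Θ (hF : Fintype.card F = q ^ 2) :
    (data n hF).Θ = theta (frob hF).toRingHom := by
  ext1 g
  rw [TwData.Θ_eq, show (data n hF).e = 1 from rfl, diagGL_one, one_mul, inv_one, mul_one]
  rfl

/-- A basis in which the standard Hermitian form becomes antidiagonal. -/
theorem exists_frame (hF : Fintype.card F = q ^ 2) (n : ℕ) :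
    ∃ Q : GL (Fin n) F,
      (Q : Matrix (Fin n) (Fin n) F)ᵀ * (Q : Matrix (Fin n) (Fin n) F).map (fun x => x ^ q) =
        (permGL F Fin.revPerm : GL (Fin n) F) := by
  classical
  set k := n / 2 with hk
  have hk2 : 2 * k ≤ n := by omega
  obtain ⟨⟨f, hf⟩⟩ : Nonempty (TIFrame n F q k) := by
    have hne : Nat.card (TIFrame n F q k) ≠ 0 := fun h => by
      have h2 := card_TIFrame (F := F) hF hk2
      rw [h, mul_zero] at h2
      haveI : Nonempty ↥(GU n F q) := One.instNonempty
      exact Nat.card_pos.ne h2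
    exact (Nat.card_ne_zero.1 hne).1
  obtain ⟨b⟩ := exists_hypBasis hF (⟨f, hf⟩ : TIFrame n F q k)
  let col : Fin n → Fin n → F := fun j =>
    if h : (j : ℕ) < k then f ⟨j, h⟩
    else if h' : (j.rev : ℕ) < k then b.v ⟨j.rev, h'⟩
    else b.e ⟨0, by have := j.isLt; rw [Fin.val_rev] at h'; omega⟩
  have hgram : ∀ i j, hermForm n F q (col i) (col j) = if i = j.rev then 1 else 0 := by
    intro i j
    have hfv : ∀ i l, hermForm n F q (f i) (b.v l) = if l = i then 1 else 0 := by
      intro i l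
      rw [← herm_swap hF, b.vf]
      split_ifs <;> simp [q_ne_zero hF]
    have hfe : ∀ i l, hermForm n F q (f i) (b.e l) = 0 := fun i l => by
      rw [← herm_swap hF, b.ef, zero_pow (q_ne_zero hF)]
    have hve : ∀ i l, hermForm n F q (b.v i) (b.e l) = 0 := fun i l => by
      rw [← herm_swap hF, b.ev, zero_pow (q_ne_zero hF)]
    have hee : ∀ i l, hermForm n F q (b.e i) (b.e l) = if i = l then 1 else 0 := b.ee
    have := i.isLt
    have := j.isLt
    simp only [col]
    split_ifs <;>
      simp only [hf.2, hfv, hfe, hve, hee, b.vf, b.vv, b.ef, b.ev] <;>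
      (try split_ifs) <;>
      simp_all [Fin.ext_iff, Fin.val_rev] <;> omega
  let M : Matrix (Fin n) (Fin n) F := Matrix.of fun i j => col j i
  have hM : Mᵀ * M.map (fun x => x ^ q) = (permGL F Fin.revPerm : GL (Fin n) F) := by
    ext i j
    rw [permGL_apply, Fin.revPerm_apply, ← hgram]
    rfl
  have hdet : IsUnit M.det := by
    have := congrArg Matrix.det hM
    rw [det_mul, det_transpose] at this
    exact isUnit_of_mul_isUnit_left (this ▸ (Matrix.isUnit_iff_isUnit_det _).1 (Units.isUnit _))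
  exact ⟨glOfDet M hdet, hM⟩

theorem steinberg (hF : Fintype.card F = q ^ 2) (p : ℕ) [Fact p.Prime] [CharP F p] :
    ∃ χ : Cfsg.PSU n F q → ℂ, Cfsg.IsIrrCharacter (Cfsg.PSU n F q) χ ∧
      ∀ P : Sylow p (Cfsg.PSU n F q), χ 1 = Nat.card P ∧
        ∀ x : Cfsg.PSU n F q, x ∈ P → x ≠ 1 → χ x = 0 := by
  obtain ⟨Q, hQ⟩ := exists_frame hF n
  set T := data n hF
  let N : Subgroup ↥T.Grp := (GeneralLinearGroup.det.comp T.Grp.subtype).ker
  have hN : (unitriGL n F).subgroupOf T.Grp ≤ N := fun g hg => MonoidHom.mem_ker.2 (Units.ext (by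
    show Matrix.det ((g : GL (Fin n) F) : Matrix (Fin n) (Fin n) F) = 1
    have hg' : (g : GL (Fin n) F) ∈ unitriGL n F := hg
    rw [blockTriangular_det (mem_unitri.1 hg').1]
    exact Finset.prod_eq_one fun i _ => (mem_unitri.1 hg').2 i))
  have hrange : (UnitaryTwoPSU.toG n F q Q).range = N.map T.Grp.subtype := by
    rw [UnitaryTwoPSU.range_toG hF hQ]
    ext g
    rw [UnitaryTwo.mem_G, Subgroup.mem_map]
    constructor
    · rintro ⟨h1, h2⟩
      exact ⟨⟨g, show T.Θ g = g by rw [data_Θ]; exact h1⟩, h2, rfl⟩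
    · rintro ⟨⟨x, hx⟩, hxN, rfl⟩
      refine ⟨?_, hxN⟩
      show theta _ x = x
      rw [← data_Θ hF]
      exact hx
  exact T.steinberg p N hN (centerQuot
    (((MonoidHom.ofInjective (UnitaryTwoPSU.toG_injective (q := q) Q)).trans
      (MulEquiv.subgroupCongr hrange)).trans
      (N.equivMapOfInjective _ T.Grp.subtype_injective).symm))

end Cfsg.Agent.H83.Classical.Unit
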