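import Cfsg.Agent.H83.Classical.Longest
import Cfsg.Agent.H26.DefectZero
import Cfsg.Agent.H27.BNPair

/-!
Restriction of a split Tits system to a normal subgroup containing `U`, and the Steinberg character
of the central quotient.
-/

set_option autoImplicit false
set_option linter.unusedSectionVars false
set_option linter.style.haveILetI false

namespace Cfsg.Agent.H83.Classical

open Cfsg.Agent.H37 Cfsg.Agent.H28 Cfsg.Agent.H54

variable {G W : Type*} [Group G] [Group W] (A : Tits.Ambient G W) {N : Subgroup G} [hN : N.Normal]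
  (hU : A.U ≤ N)

include hU in
/-- Every Weyl element has a representative in a normal subgroup containing `U`. -/
theorem exists_rep_mem (w : W) : ∃ h ∈ A.H, h * A.n w ∈ N := by
  set π := QuotientGroup.mk' N
  have hπU : ∀ u ∈ A.U, π u = 1 := fun u hu => (QuotientGroup.eq_one_iff u).2 (hU hu)
  suffices h : π (A.n w) ∈ A.H.map π by
    obtain ⟨k, hk, e⟩ := h
    refine ⟨k⁻¹, inv_mem hk, (QuotientGroup.eq_one_iff _).1 ?_⟩
    show π (k⁻¹ * A.n w) = 1
    rw [map_mul, map_inv, e, inv_mul_cancel]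
  have hmem : w ∈ Subgroup.closure A.S := by rw [A.closure_S]; exact Subgroup.mem_top w
  induction hmem using Subgroup.closure_induction with
  | one => rw [A.n_one, map_one]; exact one_mem _
  | mul a b _ _ ha hb =>
    obtain ⟨k, hk, e⟩ := A.n_mul a b
    rw [show A.n (a * b) = k⁻¹ * (A.n a * A.n b) by rw [e]; group, map_mul, map_mul, map_inv]
    exact mul_mem (inv_mem ⟨k, hk, rfl⟩) (mul_mem ha hb)
  | inv a _ ha =>
    obtain ⟨k, hk, e⟩ := A.n_inv a
    rw [show A.n a⁻¹ = k⁻¹ * (A.n a)⁻¹ by rw [e]; group, map_mul, map_inv, map_inv]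
    exact mul_mem (inv_mem ⟨k, hk, rfl⟩) (inv_mem ha)
  | mem s hs =>
    obtain ⟨⟨v, hv⟩, hv1⟩ := Subgroup.ne_bot_iff_exists_ne_one.1 (A.Uw_S_ne s hs)
    have hv1' : v ≠ 1 := fun e => hv1 (Subtype.ext e)
    have hvU := A.Uw_le s hv
    obtain ⟨j, hj, ej⟩ := A.n_inv s
    rw [A.S_inv hs] at ej
    obtain ⟨k, hk, ek⟩ := A.n_mul s s
    rw [A.sq_S s hs, A.n_one, mul_one] at ek
    rcases A.step hs s (A.U_le_B hvU) with h | h
    · exfalso
      rw [A.sq_S s hs, A.n_one, Tits.Ambient.inCell_iff] at h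
      obtain ⟨b, hb, c, hc, e⟩ := h
      have hm : A.n s * v * A.n s ∈ A.B := by rw [e, mul_one]; exact mul_mem hb hc
      obtain ⟨u, hu, k', hk', e'⟩ := hm
      have e2 : A.n s * v = u * (k' * j) * A.n s := by
        rw [mul_assoc u, mul_assoc k', ← ej, ← mul_assoc, ← e', mul_inv_cancel_right]
      exact hv1' (A.unique (one_mem _) hu (one_mem _) (mul_mem hk' hj) hv (one_mem _)
        (show 1 * 1 * A.n s * v = u * (k' * j) * A.n s * 1 by simpa using e2)).2.2.2
    · rw [Tits.Ambient.inCell_iff] at h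
      obtain ⟨_, ⟨u, hu, h₁, hh₁, rfl⟩, _, ⟨u', hu', h₂, hh₂, rfl⟩, e⟩ := h
      have e2 := congrArg π e
      simp only [map_mul, hπU v hvU, hπU u hu, hπU u' hu', one_mul, mul_one] at e2
      rw [← map_mul, ek] at e2
      refine ⟨h₁⁻¹ * k * h₂⁻¹, mul_mem (mul_mem (inv_mem hh₁) hk) (inv_mem hh₂), ?_⟩
      rw [map_mul, map_mul, map_inv, map_inv, e2]
      group

/-- The diagonal correction of the representatives. -/
noncomputable def corr (w : W) : G := by
  classical exact if w = 1 then 1 else (exists_rep_mem A hU w).choose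

theorem corr_mem_H (w : W) : corr A hU w ∈ A.H := by
  unfold corr
  split_ifs
  · exact one_mem _
  · exact (exists_rep_mem A hU w).choose_spec.1

theorem corr_mul_mem (w : W) : corr A hU w * A.n w ∈ N := by
  unfold corr
  split_ifs with h
  · rw [h, A.n_one, mul_one]; exact one_mem _
  · exact (exists_rep_mem A hU w).choose_spec.2

theorem corr_one : corr A hU 1 = 1 := by
  unfold corr
  rw [if_pos rfl]

/-- The restricted system. -/
noncomputable def restrict : Tits.Ambient ↥N W where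
  U := A.U.subgroupOf N
  H := A.H.subgroupOf N
  n w := ⟨corr A hU w * A.n w, corr_mul_mem A hU w⟩
  Uw w := (A.Uw w).subgroupOf N
  exists_eq := by
    rintro ⟨g, hg⟩
    obtain ⟨u, hu, h, hh, w, v, hv, e⟩ := A.exists_eq g
    have hm : h * (corr A hU w)⁻¹ ∈ N := by
      rw [show h * (corr A hU w)⁻¹ = u⁻¹ * g * v⁻¹ * (corr A hU w * A.n w)⁻¹ by rw [e]; group]
      exact mul_mem (mul_mem (mul_mem (inv_mem (hU hu)) hg) (inv_mem (hU (A.Uw_le w hv))))
        (inv_mem (corr_mul_mem A hU w))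
    refine ⟨⟨u, hU hu⟩, hu, ⟨_, hm⟩, mul_mem hh (inv_mem (corr_mem_H A hU w)), w,
      ⟨v, hU (A.Uw_le w hv)⟩, hv, Subtype.ext ?_⟩
    show g = u * (h * (corr A hU w)⁻¹) * (corr A hU w * A.n w) * v
    rw [e]; group
  unique {u u' h h' v v' w w'} hu hu' hh hh' hv hv' e := by
    obtain ⟨h1, h2, h3, h4⟩ := A.unique (u := (u : G)) (u' := (u' : G)) (h := (h : G) * corr A hU w)
      (h' := (h' : G) * corr A hU w') hu hu' (mul_mem hh (corr_mem_H A hU w))
      (mul_mem hh' (corr_mem_H A hU w')) hv hv' (by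
        have := congrArg Subtype.val e
        simpa [mul_assoc] using this)
    subst h1
    exact ⟨rfl, Subtype.ext h2, Subtype.ext (mul_right_cancel h3), Subtype.ext h4⟩
  S := A.S
  closure_S := A.closure_S
  sq_S := A.sq_S
  n_one := Subtype.ext (by show corr A hU 1 * A.n 1 = 1; rw [corr_one, A.n_one, mul_one])
  n_mul a b := by
    obtain ⟨k, hk, e⟩ := A.n_mul a b
    set x := corr A hU a * (A.n a * corr A hU b * (A.n a)⁻¹) * k * (corr A hU (a * b))⁻¹
    have hxH : x ∈ A.H := mul_mem (mul_mem (mul_mem (corr_mem_H A hU a)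
      (A.n_conj_H a _ (corr_mem_H A hU b))) hk) (inv_mem (corr_mem_H A hU (a * b)))
    have hx : corr A hU a * A.n a * (corr A hU b * A.n b) = x * (corr A hU (a * b) * A.n (a * b)) := by
      calc _ = corr A hU a * (A.n a * corr A hU b * (A.n a)⁻¹) * (A.n a * A.n b) := by group
        _ = _ := by rw [e]; simp only [x]; group
    have hxN : x ∈ N := by
      rw [show x = corr A hU a * A.n a * (corr A hU b * A.n b) *
        (corr A hU (a * b) * A.n (a * b))⁻¹ by rw [hx, mul_inv_cancel_right]]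
      exact mul_mem (mul_mem (corr_mul_mem A hU a) (corr_mul_mem A hU b))
        (inv_mem (corr_mul_mem A hU (a * b)))
    exact ⟨⟨x, hxN⟩, hxH, Subtype.ext hx⟩
  n_conj_H w h hh := by
    show corr A hU w * A.n w * (h : G) * (corr A hU w * A.n w)⁻¹ ∈ A.H
    rw [show corr A hU w * A.n w * (h : G) * (corr A hU w * A.n w)⁻¹ =
      corr A hU w * (A.n w * h * (A.n w)⁻¹) * (corr A hU w)⁻¹ by group]
    exact mul_mem (mul_mem (corr_mem_H A hU w) (A.n_conj_H w h hh)) (inv_mem (corr_mem_H A hU w))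
  H_conj_U h hh u hu := A.H_conj_U h hh u hu
  Uw_le w v hv := A.Uw_le w hv
  Uw_one := by rw [A.Uw_one]; exact Subgroup.bot_subgroupOf _
  Uw_S_ne s hs := by
    obtain ⟨⟨v, hv⟩, hv1⟩ := Subgroup.ne_bot_iff_exists_ne_one.1 (A.Uw_S_ne s hs)
    intro hbot
    have : (⟨v, hU (A.Uw_le s hv)⟩ : ↥N) ∈ (⊥ : Subgroup ↥N) := hbot ▸ hv
    exact hv1 (Subtype.ext (congrArg Subtype.val (Subgroup.mem_bot.1 this) :))
  cell_step s hs u hu w := by
    set g : ↥N := _ * u * _
    have hb : (u : G) * corr A hU w ∈ A.B := ⟨u, hu, _, corr_mem_H A hU w, rfl⟩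
    have hstep := A.step hs w hb
    have key : ∀ x, Tits.InCell A.U A.H (A.n x) (A.n s * (u * corr A hU w) * A.n w) →
        Tits.InCell (A.U.subgroupOf N) (A.H.subgroupOf N) ⟨_, corr_mul_mem A hU x⟩ g := by
      intro x hx
      rw [Tits.Ambient.inCell_iff] at hx
      obtain ⟨b, hb', c, hc, e⟩ := hx
      obtain ⟨u₁, hu₁, h₁, hh₁, e₁⟩ := mul_mem (A.H_le_B (corr_mem_H A hU s)) hb'
      obtain ⟨u₂, hu₂, h₂, hh₂, e₂⟩ := hc
      set m := h₁ * (A.n x * h₂ * (A.n x)⁻¹) * (corr A hU x)⁻¹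
      set v := h₂⁻¹ * u₂ * h₂
      have hv : v ∈ A.U := by simpa [v] using A.H_conj_U h₂⁻¹ (inv_mem hh₂) u₂ hu₂
      have hmH : m ∈ A.H := mul_mem (mul_mem hh₁ (A.n_conj_H x h₂ hh₂)) (inv_mem (corr_mem_H A hU x))
      have hg : (g : G) = u₁ * m * (corr A hU x * A.n x) * (v * 1) := by
        calc (g : G) = corr A hU s * (A.n s * (u * corr A hU w) * A.n w) := by
              show corr A hU s * A.n s * u * (corr A hU w * A.n w) = _
              group
          _ = (corr A hU s * b) * A.n x * c := by rw [e]; group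
          _ = _ := by rw [e₁, e₂]; simp only [m, v]; group
      have hmN : m ∈ N := by
        rw [show m = u₁⁻¹ * g * (v * 1)⁻¹ * (corr A hU x * A.n x)⁻¹ by rw [hg]; group]
        exact mul_mem (mul_mem (mul_mem (inv_mem (hU hu₁)) g.2) (inv_mem (mul_mem (hU hv) (one_mem _))))
          (inv_mem (corr_mul_mem A hU x))
      exact ⟨⟨u₁, hU hu₁⟩, hu₁, ⟨m, hmN⟩, hmH, ⟨v, hU hv⟩, hv, 1, one_mem _, Subtype.ext hg⟩
    exact hstep.imp (key (s * w)) (key w)

theorem card_restrict {K : Subgroup G} (hK : K ≤ N) : Nat.card ↥(K.subgroupOf N) = Nat.card ↥K :=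
  Nat.card_congr (Subgroup.subgroupOfEquivOfLe hK).toEquiv

theorem card_restrict_Uw (w : W) : Nat.card ↥((restrict A hU).Uw w) = Nat.card ↥(A.Uw w) :=
  card_restrict ((A.Uw_le w).trans hU)

/-- A central element lies in `H`. -/
theorem center_le_H [Finite G] {w₀ : W} (hfull : A.Uw w₀ = A.U)
    (hlt : ∀ s ∈ A.S, Nat.card (A.Uw (w₀ * s)) < Nat.card A.U) :
    Subgroup.center G ≤ A.H := by
  intro z hz
  have hc := Subgroup.mem_center_iff.1 hz
  have hp : A.pair.parabolic ∅ = A.pair.B := by simp [Cfsg.BNPair.parabolic]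
  have hzB : z ∈ A.pair.B := by
    rw [← hp, ← H27.BN.normalizer_parabolic A.pair ∅, hp]
    refine Subgroup.mem_normalizer_iff.2 fun x => ?_
    rw [← hc x, mul_inv_cancel_right]
  rw [← Longest.inf_conj A hfull (Longest.allDesc_of_full A hfull hlt)]
  refine ⟨hzB, z, hzB, ?_⟩
  show BNSt.n0 A.pair * z * (BNSt.n0 A.pair)⁻¹ = z
  rw [hc, mul_inv_cancel_right]

theorem st_central [Finite G] (P : Cfsg.BNPair G) {z : G} (hzB : z ∈ P.B) (hz : z ∈ Subgroup.center G) :
    BNSt.st P z = BNSt.st P 1 := by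
  refine Finset.sum_congr rfl fun J _ => ?_
  congr 1
  unfold fixedPointCharacter
  congr 1
  refine Nat.card_congr (Equiv.setCongr ?_)
  ext c
  induction c using QuotientGroup.induction_on with
  | H x =>
    simp only [MulAction.mem_fixedBy, one_smul, iff_true]
    rw [MulAction.Quotient.smul_coe, smul_eq_mul, ← Subgroup.mem_center_iff.1 hz x,
      QuotientGroup.eq, mul_inv_rev, mul_assoc, inv_mul_cancel, mul_one]
    exact inv_mem (Subgroup.mem_sup_left hzB)

include hU in
/-- The Steinberg character of the central quotient of a normal subgroup containing `U`. -/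
theorem steinberg [Finite G] [Finite W] {p : ℕ} [hp : Fact p.Prime] {w₀ : W} (hfull : A.Uw w₀ = A.U)
    (hlt : ∀ s ∈ A.S, Nat.card (A.Uw (w₀ * s)) < Nat.card A.U) (hUp : IsPGroup p ↥A.U)
    (hHp : ¬ p ∣ Nat.card ↥A.H) (hne : ∀ w, w ≠ 1 → A.Uw w ≠ ⊥)
    {Q : Type*} [Group Q] (e : Q ≃* ↥N ⧸ Subgroup.center ↥N) :
    ∃ χ : Q → ℂ, Cfsg.IsIrrCharacter Q χ ∧ ∀ P : Sylow p Q, χ 1 = Nat.card P ∧
      ∀ x : Q, x ∈ P → x ≠ 1 → χ x = 0 := by
  classical
  set A' := restrict A hU
  have hfull' : A'.Uw w₀ = A'.U := by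
    show (A.Uw w₀).subgroupOf N = A.U.subgroupOf N
    rw [hfull]
  have hlt' : ∀ s ∈ A'.S, Nat.card (A'.Uw (w₀ * s)) < Nat.card A'.U := fun s hs => by
    rw [card_restrict_Uw, show Nat.card ↥A'.U = _ from card_restrict hU]
    exact hlt s hs
  have hA := Longest.allDesc_of_full A' hfull' hlt'
  have hirr := BNSt.isIrr A'.pair
  have hdeg : BNSt.st A'.pair 1 = (Nat.card A.U : ℂ) := by
    rw [BNSt.st_one, show A'.pair.B = A'.B from rfl, Longest.inf_conj A' hfull' hA, Longest.index_H A',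
      show Nat.card ↥A'.U = _ from card_restrict hU]
  set Z := Subgroup.center ↥N
  have hZH : Z ≤ A'.H := center_le_H A' hfull' hlt'
  obtain ⟨ψ, -, hval, hψ⟩ := CharInduce.IsChar.exists_deflate (CharBasic.IsIrr.isCharacter hirr) Z
    (fun z hz => st_central A'.pair (A'.H_le_B (hZH hz)) hz)
  let _instW : Fintype W := Fintype.ofFinite W
  obtain ⟨a, ha⟩ := IsPGroup.iff_card.1 hUp
  have hH' : ¬ p ∣ Nat.card ↥A'.H := fun h => hHp (h.trans (by
    rw [← Subgroup.card_map_of_injective (f := N.subtype) N.subtype_injective]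
    exact Subgroup.card_dvd_of_le (Subgroup.map_le_iff_le_comap.2 le_rfl)))
  have hsum : ¬ p ∣ ∑ w, Nat.card (A'.Uw w) := by
    intro hd
    rw [← Finset.add_sum_erase _ _ (Finset.mem_univ (1 : W)), A'.Uw_one, Subgroup.card_bot] at hd
    have h2 : p ∣ ∑ w ∈ (Finset.univ : Finset W).erase 1, Nat.card (A'.Uw w) := by
      refine Finset.dvd_sum fun w hw => ?_
      rw [card_restrict_Uw]
      obtain ⟨b, hb⟩ := IsPGroup.iff_card.1 (hUp.to_le (A.Uw_le w))
      rcases b with _ | b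
      · exact absurd (Subgroup.card_eq_one.1 (by rw [hb, pow_zero])) (hne w (Finset.mem_erase.1 hw).1)
      · rw [hb]; exact dvd_pow_self p b.succ_ne_zero
    exact hp.out.not_dvd_one ((Nat.dvd_add_left h2).1 hd)
  have hN' : Nat.card ↥N = p ^ a * (Nat.card ↥A'.H * ∑ w, Nat.card (A'.Uw w)) := by
    rw [A'.toNormalForm.card_eq, show Nat.card ↥A'.U = _ from card_restrict hU, ha, mul_assoc]
  have hZp : ¬ p ∣ Nat.card ↥Z := fun h => hH' (h.trans (Subgroup.card_dvd_of_le hZH))
  have hcard : (Nat.card Q).factorization p = a := by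
    have h1 : Nat.card Q * Nat.card ↥Z = Nat.card ↥N := by
      rw [Nat.card_congr e.toEquiv]; exact (Subgroup.card_eq_card_quotient_mul_card_subgroup Z).symm
    have hrest : ¬ p ∣ Nat.card ↥A'.H * ∑ w, Nat.card (A'.Uw w) := fun h =>
      (hp.out.dvd_mul.1 h).elim hH' hsum
    haveI : Finite Q := Finite.of_equiv _ e.symm.toEquiv
    have h2 := congrArg (fun k => k.factorization p) (h1.trans hN')
    rw [Nat.factorization_mul Nat.card_pos.ne' Nat.card_pos.ne', Finsupp.add_apply,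
      Nat.factorization_eq_zero_of_not_dvd hZp, Nat.factorization_mul (pow_ne_zero _ hp.out.ne_zero)
      (fun h => hrest (by rw [h]; exact dvd_zero p)), Finsupp.add_apply, Nat.factorization_eq_zero_of_not_dvd hrest,
      hp.out.factorization_pow, Finsupp.single_eq_same] at h2
    omega
  have hχirr : Cfsg.IsIrrCharacter Q (fun x => ψ (e x)) :=
    CharInduce.IsIrr.comp (hψ hirr) e.toMonoidHom e.surjective
  haveI : Finite Q := Finite.of_equiv _ e.symm.toEquiv
  refine ⟨fun x => ψ (e x), hχirr, fun P => ?_⟩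
  have h1 : (fun x => ψ (e x)) 1 = (Nat.card P : ℂ) := by
    show ψ (e 1) = _
    rw [map_one, ← QuotientGroup.mk_one, ← hval 1, hdeg, P.card_eq_multiplicity, hcard, ha]
  refine ⟨h1, fun x hx hx1 => ?_⟩
  haveI : Fintype Q := Fintype.ofFinite Q
  obtain ⟨m, ρ, hρ, hρe⟩ := hχirr
  have hρx : ρ.character x = ψ (e x) := congrFun hρe x
  show ψ (e x) = 0
  rw [← hρx]
  refine H26.defect_zero_vanish ρ (p := p) (n := (Nat.card Q).factorization p) hp.out
    (Nat.ordProj_dvd _ _) (Nat.pow_succ_factorization_not_dvd Nat.card_pos.ne' hp.out) ?_ ?_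
  · rw [← P.card_eq_multiplicity]
    have h3 := congrFun hρe 1
    rw [Representation.char_one] at h3
    rw [h3.trans h1 |> Nat.cast_injective]
  · obtain ⟨k, hk⟩ := IsPGroup.iff_orderOf.mp P.2 ⟨x, hx⟩
    rw [Subgroup.orderOf_mk] at hk
    rw [hk]
    refine dvd_pow_self p fun h => hx1 ?_
    rw [h, pow_zero] at hk
    exact orderOf_eq_one_iff.mp hk

end Cfsg.Agent.H83.Classical
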