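import Cfsg.Agent.H83.Classical.GLTits
import Cfsg.Agent.H83.Classical.AmbientSteinberg
import Cfsg.Agent.H37.Tits.Folded

/-!
The fixed points of the twist `g ↦ D θ(g) D⁻¹` on the general linear group (symplectic, unitary and odd
dimensional orthogonal groups) as a split Tits system, and their Steinberg characters.
-/

set_option autoImplicit false
set_option linter.unusedSectionVars false
set_option linter.unusedFintypeInType false
set_option linter.unusedVariables false

namespace Cfsg.Agent.H83.Classical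

open Matrix Equiv Cfsg.Agent.Linear Cfsg.Agent.H54 Cfsg.Agent.H52.TwistedBruhat
open Cfsg.Agent.H37 NormalForm
open scoped MatrixGroups

variable {n : ℕ} {F : Type*} [Field F]

/-- The data of a twist. -/
structure TwData (n : ℕ) (F : Type*) [Field F] where
  /-- the field endomorphism -/
  σ : F →+* F
  /-- the scaling -/
  e : Fin n → Fˣ
  /-- diagonal parts of the representatives -/
  f : Equiv.Perm (Fin n) → Fin n → Fˣ
  hσ : ∀ x, σ (σ x) = x
  he : ∀ i j : Fin n, σ ((e j.rev : F) / (e i.rev : F)) * ((e i : F) / (e j : F)) = 1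
  f_one : f 1 = 1
  hf : ∀ w, revConj w = w → ∀ i : Fin n,
    (σ (f w i.rev : F))⁻¹ * (e i : F) * ((e (w⁻¹ i) : F))⁻¹ = (f w i : F)
  mid_even : ∀ i j : Fin n, (j : ℕ) = i + 1 → j = i.rev →
    ∃ a : F, a ≠ 0 ∧ -σ a * ((e i : F) / (e j : F)) = a
  mid_odd : ∀ i j k : Fin n, (j : ℕ) = i + 1 → j.rev = j → k = i.rev →
    ∃ a c : F, (a ≠ 0 ∨ c ≠ 0) ∧
      -σ c * ((e i : F) / (e k : F)) + a * σ a * ((e j : F) / (e k : F)) = c

namespace TwData

variable (T : TwData n F)

/-- The twist. -/
noncomputable def Θ : GL (Fin n) F →* GL (Fin n) F :=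
  (MulAut.conj (diagGL T.e)).toMonoidHom.comp (theta T.σ)

theorem Θ_eq (g : GL (Fin n) F) : T.Θ g = diagGL T.e * theta T.σ g * (diagGL T.e)⁻¹ := rfl

theorem Θ_apply (g : GL (Fin n) F) (i j : Fin n) :
    (T.Θ g : Matrix (Fin n) (Fin n) F) i j =
      (T.e i : F) * T.σ (((g⁻¹ : GL (Fin n) F) : Matrix (Fin n) (Fin n) F) j.rev i.rev) * ((T.e j : F))⁻¹ := by
  rw [Θ_eq, diag_conj_apply, theta_apply, Units.val_inv_eq_inv_val]

theorem theta_diag (σ : F →+* F) (d : Fin n → Fˣ) :
    theta σ (diagGL d) = diagGL (fun i => (Units.map (σ : F →* F) (d i.rev))⁻¹) := by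
  apply Units.ext
  ext i j
  rw [theta_apply, diagGL_inv, diagGL_coe, diagGL_coe]
  by_cases h : i = j
  · subst h
    rw [diagonal_apply_eq, diagonal_apply_eq, Pi.inv_apply, Units.val_inv_eq_inv_val, map_inv₀,
      Units.val_inv_eq_inv_val]
    rfl
  · rw [diagonal_apply_ne _ h, diagonal_apply_ne _ (fun e => h (Fin.rev_injective e).symm), map_zero]

theorem Θ_torus {h : GL (Fin n) F} (hh : h ∈ torus n F) : T.Θ h ∈ torus n F := by
  obtain ⟨d, rfl⟩ := exists_of_mem_torus hh
  rw [Θ_eq, theta_diag]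
  exact mul_mem (mul_mem (diag_mem_torus _) (diag_mem_torus _)) (inv_mem (diag_mem_torus _))

theorem Θ_unitri {u : GL (Fin n) F} (hu : u ∈ unitriGL n F) : T.Θ u ∈ unitriGL n F :=
  torus_conj_unitri (diag_mem_torus _) (theta_unitri T.σ hu)

theorem revConj_mul (a b : Equiv.Perm (Fin n)) : revConj (a * b) = revConj a * revConj b := by
  ext i
  simp [revConj]

theorem revConj_inv (a : Equiv.Perm (Fin n)) : revConj a⁻¹ = (revConj a)⁻¹ := by
  rw [eq_inv_iff_mul_eq_one, ← revConj_mul, inv_mul_cancel]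
  ext i
  simp [revConj]

theorem rev_comm {w : Equiv.Perm (Fin n)} (hw : revConj w = w) (i : Fin n) : w i.rev = (w i).rev := by
  conv_lhs => rw [← hw]
  simp [revConj]

theorem Θ_rep (w : Equiv.Perm (Fin n)) :
    T.Θ (diagGL (T.f w) * permGL F w) =
      diagGL (fun i => (Units.map (T.σ : F →* F) (T.f w i.rev))⁻¹ * T.e i * (T.e ((revConj w)⁻¹ i))⁻¹) *
        permGL F (revConj w) := by
  rw [Θ_eq, map_mul, theta_diag, theta_perm, diagGL_inv T.e, mul_assoc, mul_assoc,
    show permGL F (revConj w) * diagGL T.e⁻¹ =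
      diagGL (fun i => (T.e⁻¹) ((revConj w)⁻¹ i)) * permGL F (revConj w) by rw [diag_perm]; simp; rfl,
    ← mul_assoc, ← mul_assoc, ← diagGL_mul, ← diagGL_mul]
  congr 2
  funext i
  simp only [Pi.mul_apply, Pi.inv_apply]
  rw [mul_comm (T.e i)]

theorem Θ_rep_fixed {w : Equiv.Perm (Fin n)} (hw : revConj w = w) :
    T.Θ (diagGL (T.f w) * permGL F w) = diagGL (T.f w) * permGL F w := by
  rw [Θ_rep, hw]
  congr 2
  funext i
  refine Units.ext ?_
  rw [Units.val_mul, Units.val_mul, Units.val_inv_eq_inv_val, Units.val_inv_eq_inv_val]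
  exact T.hf w hw i

theorem Θ_xGL {i j : Fin n} (h : i ≠ j) (a : F) :
    T.Θ (xGL h a) = xGL (Fin.rev_injective.ne h.symm)
      (-T.σ a * ((T.e j.rev : F) / (T.e i.rev : F))) := by
  apply Units.ext
  ext r c
  rw [Θ_apply, xGL_inv, xGL_apply, xGL_apply, map_add, apply_ite T.σ, apply_ite T.σ, map_one, map_zero]
  have hiff : (c.rev = i ∧ r.rev = j) ↔ (r = j.rev ∧ c = i.rev) := by
    constructor
    · rintro ⟨rfl, rfl⟩; exact ⟨(Fin.rev_rev _).symm, (Fin.rev_rev _).symm⟩
    · rintro ⟨rfl, rfl⟩; exact ⟨Fin.rev_rev _, Fin.rev_rev _⟩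
  have hiff2 : (c.rev = r.rev) ↔ (r = c) := ⟨fun e => (Fin.rev_injective e).symm, fun e => by rw [e]⟩
  simp only [hiff, hiff2]
  by_cases h1 : r = j.rev ∧ c = i.rev
  · rw [if_pos h1, if_pos h1]
    have hne : r ≠ c := by rw [h1.1, h1.2]; exact Fin.rev_injective.ne h.symm
    rw [if_neg hne, map_neg, h1.1, h1.2]
    ring
  · rw [if_neg h1, if_neg h1]
    by_cases h2 : r = c
    · subst h2; simp
    · simp [h2]

theorem Θ_Θ_coeff (i j : Fin n) (a : F) :
    -T.σ (-T.σ a * ((T.e j.rev : F) / (T.e i.rev : F))) * ((T.e i : F) / (T.e j : F)) = a := by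
  have h := T.he i j
  rw [map_mul, map_neg, T.hσ]
  linear_combination a * h

theorem xGL_mul_comm {a b c d : Fin n} (hab : a ≠ b) (hcd : c ≠ d) (h1 : b ≠ c) (h2 : d ≠ a) (x y : F) :
    xGL hab x * xGL hcd y = xGL hcd y * xGL hab x := by
  apply Units.ext
  show Matrix.transvection a b x * Matrix.transvection c d y =
    Matrix.transvection c d y * Matrix.transvection a b x
  simp only [Matrix.transvection, mul_add, add_mul, mul_one, one_mul,
    Matrix.single_mul_single_of_ne _ _ _ _ h1, Matrix.single_mul_single_of_ne _ _ _ _ h2, add_zero]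
  abel

theorem xGL_commutation {i j k : Fin n} (hij : i ≠ j) (hjk : j ≠ k) (hik : i ≠ k) (a b : F) :
    xGL hjk b * xGL hij a = xGL hij a * xGL hjk b * xGL hik (-(a * b)) := by
  apply Units.ext
  have hn : Matrix.single i k (-(a * b)) = -(Matrix.single i k (a * b)) := by
    ext r c
    simp only [Matrix.single_apply, Matrix.neg_apply]
    split_ifs <;> simp
  show Matrix.transvection j k b * Matrix.transvection i j a =
    Matrix.transvection i j a * Matrix.transvection j k b * Matrix.transvection i k (-(a * b))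
  simp only [Matrix.transvection, hn, mul_add, add_mul, mul_one, one_mul, mul_neg, neg_zero,
    Matrix.single_mul_single_same, Matrix.single_mul_single_of_ne _ _ _ _ hik.symm,
    Matrix.single_mul_single_of_ne _ _ _ _ hjk.symm, Matrix.single_mul_single_of_ne _ _ _ _ hij.symm,
    add_zero]
  abel

theorem xGL_mul_xGL {i j : Fin n} (h : i ≠ j) (a b : F) : xGL h a * xGL h b = xGL h (a + b) :=
  Units.ext (Matrix.transvection_mul_transvection_same _ _ h a b)

/-- The three shapes of a descent of a symmetric permutation. -/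
def Shape (i j : Fin n) : Prop :=
  (j : ℕ) = i + 1 ∧ (j = i.rev ∨ j.rev = j ∨ j < j.rev)

theorem exists_shape {w : Equiv.Perm (Fin n)} (hw : revConj w = w) {i j : Fin n} (hij : (j : ℕ) = i + 1)
    (hd : w j < w i) : ∃ i' j', Shape i' j' ∧ w j' < w i' := by
  rcases lt_trichotomy j j.rev with h | h | h
  · exact ⟨i, j, ⟨hij, Or.inr (Or.inr h)⟩, hd⟩
  · exact ⟨i, j, ⟨hij, Or.inr (Or.inl h.symm)⟩, hd⟩
  · by_cases he : j = i.rev
    · exact ⟨i, j, ⟨hij, Or.inl he⟩, hd⟩
    · have hi := i.isLt
      have hj := j.isLt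
      refine ⟨j.rev, i.rev, ⟨by rw [Fin.val_rev, Fin.val_rev]; omega, ?_⟩,
        by rw [rev_comm hw, rev_comm hw, Fin.rev_lt_rev]; exact hd⟩
      rw [Fin.rev_rev, Fin.rev_rev]
      rw [Fin.lt_def, Fin.val_rev] at h
      rw [Fin.ext_iff, Fin.val_rev] at he
      rcases lt_trichotomy i.rev i with h' | h' | h'
      · exact Or.inr (Or.inr h')
      · exact Or.inr (Or.inl h'.symm)
      · rw [Fin.lt_def, Fin.val_rev] at h'
        omega

theorem exists_descent {w : Equiv.Perm (Fin n)} (hw : w ≠ 1) :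
    ∃ i j : Fin n, (j : ℕ) = i + 1 ∧ w j < w i := by
  by_contra hcon
  push Not at hcon
  refine hw ?_
  rcases n with _ | m
  · exact Subsingleton.elim _ _
  have hmono : StrictMono w := Fin.strictMono_iff_lt_succ.2 fun i =>
    lt_of_le_of_ne (hcon i.castSucc i.succ (by simp)) (w.injective.ne Fin.castSucc_lt_succ.ne)
  ext i
  have h := congrArg (fun e : Fin (m + 1) ≃o Fin (m + 1) => e i)
    (Subsingleton.elim (hmono.orderIsoOfSurjective w w.surjective) (OrderIso.refl _))
  simp only [StrictMono.coe_orderIsoOfSurjective, OrderIso.refl_apply] at h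
  rw [h]
  rfl

/-- A fixed nontrivial element of the part of `U` inverted by a symmetric permutation. -/
theorem exists_fixed_out {w : Equiv.Perm (Fin n)} (hw : revConj w = w) (hne : w ≠ 1) :
    ∃ v ∈ outPart (F := F) w⁻¹, T.Θ v = v ∧ v ≠ 1 := by
  obtain ⟨i₀, j₀, hij₀, hd₀⟩ := exists_descent hne
  obtain ⟨i, j, ⟨hij, hcase⟩, hd⟩ := exists_shape hw hij₀ hd₀
  have hlt : i < j := Fin.lt_def.2 (by omega)
  have hout : ∀ {a b : Fin n} (hab : a < b) (x : F), w b < w a → xGL hab.ne x ∈ outPart (F := F) w⁻¹ :=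
    fun hab x h => xGL_mem_outPart hab x (by simpa using h)
  rcases hcase with h | h | h
  · obtain ⟨a, ha, he⟩ := T.mid_even i j hij h
    refine ⟨xGL hlt.ne a, hout hlt a hd, ?_, xGL_ne_one _ ha⟩
    rw [Θ_xGL]
    have hi : i.rev = j := h.symm
    have hj : j.rev = i := by rw [h, Fin.rev_rev]
    simp only [hi, hj, he]
  · obtain ⟨a, c, hne', he⟩ := T.mid_odd i j i.rev hij h rfl
    set k := i.rev with hk
    have hjk : j < k := by
      rw [Fin.lt_def, hk, Fin.val_rev]
      rw [Fin.ext_iff, Fin.val_rev] at h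
      omega
    have hwj : (w j).rev = w j := by rw [← rev_comm hw, h]
    have hdk : w k < w j := by
      rw [hk, rev_comm hw, ← hwj, Fin.rev_lt_rev]; exact hd
    set b := -T.σ a * ((T.e j : F) / (T.e k : F)) with hb
    refine ⟨xGL hlt.ne a * xGL hjk.ne b * xGL (hlt.trans hjk).ne c,
      mul_mem (mul_mem (hout hlt a hd) (hout hjk b hdk)) (hout (hlt.trans hjk) c (hdk.trans hd)), ?_, ?_⟩
    · have hkr : k.rev = i := by rw [hk, Fin.rev_rev]
      rw [map_mul, map_mul, Θ_xGL, Θ_xGL, Θ_xGL]
      have e1 : -T.σ a * ((T.e j.rev : F) / (T.e i.rev : F)) = b := by rw [h, ← hk]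
      have e2 : -T.σ b * ((T.e i : F) / (T.e j : F)) = a := by
        have := T.Θ_Θ_coeff i j a
        rwa [e1] at this
      simp only [h, hkr, ← hk]
      rw [show -T.σ a * ((T.e j : F) / (T.e k : F)) = b from rfl,
        e2,
        xGL_commutation hlt.ne hjk.ne (hlt.trans hjk).ne a b, mul_assoc _ (xGL _ (-(a * b))), xGL_mul_xGL]
      congr 2
      rw [hb]
      linear_combination he
    · intro e
      have e1 := congrArg (fun g : GL (Fin n) F => (g : Matrix (Fin n) (Fin n) F) i j) e
      have e2 := congrArg (fun g : GL (Fin n) F => (g : Matrix (Fin n) (Fin n) F) i k) e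
      simp only [mul_xGL_apply, xGL_apply, Units.val_one, Matrix.one_apply, hlt.ne, hjk.ne, hjk.ne',
        (hlt.trans hjk).ne, (hlt.trans hjk).ne', and_true, and_false, if_true, if_false, true_and, false_and,
        zero_add, add_zero, mul_zero, ite_self, zero_mul, one_mul] at e1 e2
      have hb' : b = 0 := by rw [hb, e1]; simp
      rw [hb', mul_zero, zero_add] at e2
      exact hne'.elim (fun h => h e1) fun h => h e2
  · have hji : j.rev < i.rev := Fin.rev_lt_rev.2 hlt
    have hdr : w i.rev < w j.rev := by rw [rev_comm hw, rev_comm hw, Fin.rev_lt_rev]; exact hd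
    set t := -T.σ 1 * ((T.e j.rev : F) / (T.e i.rev : F)) with ht
    have h1 : j ≠ j.rev := h.ne
    have h2 : i.rev ≠ i := ((hlt.trans h).trans hji).ne'
    refine ⟨xGL hlt.ne 1 * xGL hji.ne t, mul_mem (hout hlt 1 hd) (hout hji t hdr), ?_, ?_⟩
    · have e2 : -T.σ t * ((T.e i : F) / (T.e j : F)) = 1 := T.Θ_Θ_coeff i j 1
      rw [map_mul, Θ_xGL, Θ_xGL, xGL_mul_comm (Fin.rev_injective.ne hlt.ne') _
        (by rw [Fin.rev_rev]; exact h2) (by rw [Fin.rev_rev]; exact h1)]
      simp only [Fin.rev_rev]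
      rw [e2, ← ht]
    · intro e
      have e1 := congrArg (fun g : GL (Fin n) F => (g : Matrix (Fin n) (Fin n) F) i j) e
      simp only [mul_xGL_apply, xGL_apply, Units.val_one, Matrix.one_apply, hlt.ne, and_self, if_true, if_false,
        zero_add, (h.trans hji).ne, add_zero] at e1
      exact one_ne_zero e1

/-! ### The folded Weyl group -/

/-- Symmetric permutations. -/
def symPerm (n : ℕ) : Subgroup (Equiv.Perm (Fin n)) where
  carrier := {w | revConj w = w}
  mul_mem' {a b} ha hb := by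
    show revConj (a * b) = a * b
    rw [revConj_mul, ha, hb]
  one_mem' := by
    show revConj 1 = 1
    ext i
    simp [revConj]
  inv_mem' {a} ha := by
    show revConj a⁻¹ = a⁻¹
    rw [revConj_inv, ha]

/-- The folded generators. -/
def SGen (s : Equiv.Perm (Fin n)) : Prop :=
  ∃ i j : Fin n, (j : ℕ) = i + 1 ∧ ((j = i.rev ∧ s = Equiv.swap i j) ∨
    (j.rev = j ∧ s = Equiv.swap i i.rev) ∨ (j < j.rev ∧ s = Equiv.swap i j * Equiv.swap j.rev i.rev))

theorem revConj_swap (a b : Fin n) : revConj (Equiv.swap a b) = Equiv.swap a.rev b.rev := by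
  ext x
  simp only [revConj, Equiv.Perm.coe_mul, Function.comp_apply, Fin.revPerm_apply, Equiv.swap_apply_def]
  split_ifs with h1 h2 h3 h4 h5 h6 <;> simp_all [Fin.rev_eq_iff]

theorem SGen.mem {s : Equiv.Perm (Fin n)} (hs : SGen s) : s ∈ symPerm n := by
  obtain ⟨i, j, hij, ⟨h, rfl⟩ | ⟨h, rfl⟩ | ⟨h, rfl⟩⟩ := hs
  · show revConj _ = _
    rw [revConj_swap, h, Fin.rev_rev, Equiv.swap_comm]
  · show revConj _ = _
    rw [revConj_swap, Fin.rev_rev, Equiv.swap_comm]
  · show revConj _ = _
    have hlt : i < j := Fin.lt_def.2 (by omega)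
    have hji : j.rev < i.rev := Fin.rev_lt_rev.2 hlt
    rw [revConj_mul, revConj_swap, revConj_swap, Fin.rev_rev, Fin.rev_rev, Equiv.swap_comm i.rev,
      Equiv.swap_comm j i]
    rw [Fin.lt_def, Fin.val_rev] at h
    ext x
    simp only [Equiv.Perm.coe_mul, Function.comp_apply, Equiv.swap_apply_def, Fin.ext_iff, Fin.val_rev]
    have hvi := Fin.val_rev i
    have hvj := Fin.val_rev j
    split_ifs <;> omega

theorem SGen.ne_one {s : Equiv.Perm (Fin n)} (hs : SGen s) : s ≠ 1 := by
  obtain ⟨i, j, hij, ⟨h, rfl⟩ | ⟨h, rfl⟩ | ⟨h, rfl⟩⟩ := hs <;> intro e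
  · exact absurd (Equiv.swap_eq_one_iff.1 e) (fun e => by rw [e] at hij; omega)
  · exact absurd (Equiv.swap_eq_one_iff.1 e) (fun e => by
      rw [Fin.ext_iff, Fin.val_rev] at h e
      omega)
  · have hlt : i < j := Fin.lt_def.2 (by omega)
    have := congrArg (fun p : Equiv.Perm (Fin n) => p i) e
    simp only [Equiv.Perm.coe_mul, Function.comp_apply, Equiv.Perm.coe_one, id_eq] at this
    rw [Equiv.swap_apply_of_ne_of_ne (hlt.trans h).ne ((hlt.trans h).trans (Fin.rev_lt_rev.2 hlt)).ne,
      Equiv.swap_apply_left] at this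
    exact hlt.ne' this

theorem SGen.sq {s : Equiv.Perm (Fin n)} (hs : SGen s) : s * s = 1 := by
  obtain ⟨i, j, hij, ⟨h, rfl⟩ | ⟨h, rfl⟩ | ⟨h, rfl⟩⟩ := hs
  · exact Equiv.swap_mul_self i j
  · exact Equiv.swap_mul_self _ _
  · have hlt : i < j := Fin.lt_def.2 (by omega)
    have hji : j.rev < i.rev := Fin.rev_lt_rev.2 hlt
    rw [Fin.lt_def, Fin.val_rev] at h
    ext x
    simp only [Equiv.Perm.coe_mul, Function.comp_apply, Equiv.swap_apply_def, Equiv.Perm.coe_one, id_eq,
      Fin.ext_iff, Fin.val_rev]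
    have hvi := Fin.val_rev i
    have hvj := Fin.val_rev j
    split_ifs <;> omega

/-- The weight used to sort by descents. -/
def weight (w : Equiv.Perm (Fin n)) : ℤ := ∑ i : Fin n, ((i : ℕ) : ℤ) * ((w i : ℕ) : ℤ)

theorem weight_mul_swap (w : Equiv.Perm (Fin n)) {a b : Fin n} (hab : a ≠ b) :
    weight (w * Equiv.swap a b) = weight w + (((b : ℕ) : ℤ) - (a : ℕ)) * (((w a : ℕ) : ℤ) - (w b : ℕ)) := by
  unfold weight
  have h : ∀ i : Fin n, ((i : ℕ) : ℤ) * (((w * Equiv.swap a b) i : ℕ) : ℤ) = ((i : ℕ) : ℤ) * ((w i : ℕ) : ℤ) +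
      ((if i = a then ((i : ℕ) : ℤ) * (((w b : ℕ) : ℤ) - (w a : ℕ)) else 0) +
       (if i = b then ((i : ℕ) : ℤ) * (((w a : ℕ) : ℤ) - (w b : ℕ)) else 0)) := by
    intro i
    rw [Equiv.Perm.mul_apply, Equiv.swap_apply_def]
    split_ifs <;> subst_vars <;> ring
  simp only [h, Finset.sum_add_distrib, Finset.sum_ite_eq', Finset.mem_univ, if_true]
  ring

theorem weight_le (w : Equiv.Perm (Fin n)) : weight w ≤ (n : ℤ) ^ 3 := by
  calc weight w ≤ ∑ _i : Fin n, (n : ℤ) * n := Finset.sum_le_sum fun i _ =>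
        mul_le_mul (by exact_mod_cast i.isLt.le) (by exact_mod_cast (w i).isLt.le) (by positivity)
          (by positivity)
    _ = _ := by simp; ring

theorem mem_closure_SGen : ∀ (k : ℕ) (w : Equiv.Perm (Fin n)), w ∈ symPerm n →
    ((n : ℤ) ^ 3 - weight w).toNat ≤ k → w ∈ Subgroup.closure {s | SGen s} := by
  intro k
  induction k using Nat.strong_induction_on with
  | _ k ih =>
    intro w hw hk
    by_cases hne : w = 1
    · rw [hne]; exact one_mem _
    obtain ⟨i₀, j₀, hij₀, hd₀⟩ := exists_descent hne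
    obtain ⟨i, j, ⟨hij, hcase⟩, hd⟩ := exists_shape hw hij₀ hd₀
    have hlt : i < j := Fin.lt_def.2 (by omega)
    suffices h : ∃ s, SGen s ∧ weight w < weight (w * s) by
      obtain ⟨s, hs, hlt'⟩ := h
      have hb := weight_le (w * s)
      have h1 : ((n : ℤ) ^ 3 - weight (w * s)).toNat < k := by omega
      have := ih _ h1 (w * s) (mul_mem hw hs.mem) le_rfl
      rw [show w = w * s * s by rw [mul_assoc, hs.sq, mul_one]]
      exact mul_mem this (Subgroup.subset_closure hs)
    have hpos : ∀ {a b : Fin n}, a < b → ∀ u : Equiv.Perm (Fin n), u b < u a →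
        weight u < weight (u * Equiv.swap a b) := fun {a b} hab u hu => by
      rw [weight_mul_swap u hab.ne]
      have h1 : (0 : ℤ) < ((b : ℕ) : ℤ) - (a : ℕ) := by
        have : (a : ℕ) < b := hab
        omega
      have h2 : (0 : ℤ) < ((u a : ℕ) : ℤ) - (u b : ℕ) := by
        have : (u b : ℕ) < u a := hu
        omega
      have := mul_pos h1 h2
      linarith
    rcases hcase with h | h | h
    · exact ⟨_, ⟨i, j, hij, Or.inl ⟨h, rfl⟩⟩, hpos hlt w hd⟩
    · refine ⟨_, ⟨i, j, hij, Or.inr (Or.inl ⟨h, rfl⟩)⟩, hpos ?_ w ?_⟩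
      · exact hlt.trans (by rw [← h]; exact Fin.rev_lt_rev.2 hlt)
      · have hwj : (w j).rev = w j := by rw [← rev_comm hw, h]
        refine lt_trans ?_ hd
        rw [rev_comm hw, ← hwj, Fin.rev_lt_rev]
        exact hd
    · have hji : j.rev < i.rev := Fin.rev_lt_rev.2 hlt
      refine ⟨_, ⟨i, j, hij, Or.inr (Or.inr ⟨h, rfl⟩)⟩, ?_⟩
      rw [← mul_assoc]
      refine (hpos hlt w hd).trans (hpos hji _ ?_)
      rw [Equiv.Perm.mul_apply, Equiv.Perm.mul_apply,
        Equiv.swap_apply_of_ne_of_ne ((hlt.trans h).trans hji).ne' (h.trans hji).ne',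
        Equiv.swap_apply_of_ne_of_ne (hlt.trans h).ne' h.ne', rev_comm hw, rev_comm hw, Fin.rev_lt_rev]
      exact hd

/-- The folded generators inside the symmetric permutations. -/
def SSet (n : ℕ) : Set ↥(symPerm n) := {s | SGen (s : Equiv.Perm (Fin n))}

theorem closure_SSet : Subgroup.closure (SSet n) = ⊤ := by
  refine eq_top_iff.2 fun x _ => ?_
  obtain ⟨w, hw⟩ := x
  have h := mem_closure_SGen _ w hw le_rfl
  have hmap : (Subgroup.closure (SSet n)).map (symPerm n).subtype = Subgroup.closure {s | SGen s} := by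
    rw [MonoidHom.map_closure]
    congr 1
    ext s
    exact ⟨by rintro ⟨x, hx, rfl⟩; exact hx, fun hs => ⟨⟨s, hs.mem⟩, hs, rfl⟩⟩
  rw [← hmap] at h
  obtain ⟨y, hy, e⟩ := h
  rwa [← show y = (⟨w, hw⟩ : ↥(symPerm n)) from Subtype.ext e]

variable [Finite F]

/-- The Tits system of the general linear group adapted to the twist. -/
noncomputable def amb : Tits.Ambient (GL (Fin n) F) (Equiv.Perm (Fin n)) := glAmb T.f T.f_one

theorem amb_n (w : Equiv.Perm (Fin n)) : T.amb.n w = diagGL (T.f w) * permGL F w := rfl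

theorem amb_Uw (w : Equiv.Perm (Fin n)) : T.amb.Uw w = outPart w⁻¹ := rfl

/-- Compatibility of the twist with the normal form. -/
noncomputable def compat : T.amb.toNormalForm.Compat T.Θ where
  τ := revConj
  c w := T.Θ (T.amb.n w) * (T.amb.n (revConj w))⁻¹
  c_mem w := by
    rw [amb_n, amb_n, Θ_rep, _root_.mul_inv_rev, ← mul_assoc, mul_inv_cancel_right]
    exact mul_mem (diag_mem_torus _) (inv_mem (diag_mem_torus _))
  c_fixed w hw := by
    rw [hw, amb_n, Θ_rep_fixed T hw, mul_inv_cancel]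
  map_U u hu := T.Θ_unitri hu
  map_H h hh := T.Θ_torus hh
  map_Uw w v hv := by
    rw [amb_Uw] at hv ⊢
    rw [Θ_eq, ← revConj_inv]
    exact torus_conj_outPart (diag_mem_torus _) (theta_outPart T.σ hv)
  map_n w := by rw [inv_mul_cancel_right]

theorem closure_single {s c : Equiv.Perm (Fin n)} (hs : s * s = 1)
    (hc : c ∈ Subgroup.closure {x | x ∈ [s]}) : c = 1 ∨ c = s := by
  induction hc using Subgroup.closure_induction with
  | mem x hx => exact Or.inr (List.mem_singleton.1 hx)
  | one => exact Or.inl rfl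
  | mul a b _ _ ha hb =>
    rcases ha with rfl | rfl <;> rcases hb with rfl | rfl <;> simp [hs]
  | inv a _ ha =>
    rcases ha with rfl | rfl
    · simp
    · exact Or.inr (inv_eq_of_mul_eq_one_right hs)

theorem closure_pair {a b c : Equiv.Perm (Fin n)} (ha : a * a = 1) (hb : b * b = 1) (hab : a * b = b * a)
    (hc : c ∈ Subgroup.closure {x | x ∈ [a, b]}) : c = 1 ∨ c = a ∨ c = b ∨ c = a * b := by
  have hia : a⁻¹ = a := inv_eq_of_mul_eq_one_right ha
  have hib : b⁻¹ = b := inv_eq_of_mul_eq_one_right hb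
  have h1 : a * (a * b) = b := by rw [← mul_assoc, ha, one_mul]
  have h2 : b * (a * b) = a := by rw [hab, ← mul_assoc, hb, one_mul]
  have h3 : a * b * a = b := by rw [hab, mul_assoc, ha, mul_one]
  have h4 : a * b * b = a := by rw [mul_assoc, hb, mul_one]
  have h5 : a * b * (a * b) = 1 := by rw [mul_assoc, h2, ha]
  induction hc using Subgroup.closure_induction with
  | mem x hx =>
    rcases List.mem_cons.1 hx with rfl | hx
    · exact Or.inr (Or.inl rfl)
    · exact Or.inr (Or.inr (Or.inl (List.mem_singleton.1 hx)))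
  | one => exact Or.inl rfl
  | mul x y _ _ hx hy =>
    rcases hx with rfl | rfl | rfl | rfl <;> rcases hy with rfl | rfl | rfl | rfl <;>
      simp [ha, hb, h1, h2, h3, h4, h5, ← hab]
  | inv x _ hx =>
    rcases hx with rfl | rfl | rfl | rfl
    · simp
    · exact Or.inr (Or.inl hia)
    · exact Or.inr (Or.inr (Or.inl hib))
    · exact Or.inr (Or.inr (Or.inr (by rw [_root_.mul_inv_rev, hia, hib, hab])))

theorem mem_adj {i j : Fin n} (hij : (j : ℕ) = i + 1) : Equiv.swap i j ∈ adj n := ⟨i, j, hij, rfl⟩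

/-- The folding. -/
noncomputable def folding : Tits.Folding T.amb T.Θ ↥(symPerm n) where
  compat := T.compat
  τ_mul := revConj_mul
  ι := (symPerm n).subtype
  ι_inj := Subtype.val_injective
  ι_range w := by
    rw [Subgroup.range_subtype]
    rfl
  S := SSet n
  closure_S := closure_SSet
  sq_S s hs := Subtype.ext (SGen.sq hs)
  orbit := by
    rintro ⟨s, hs'⟩ ⟨i, j, hij, hcase⟩
    have hlt : i < j := Fin.lt_def.2 (by omega)
    rcases hcase with ⟨h, e⟩ | ⟨h, e⟩ | ⟨h, e⟩ <;> simp only at e <;> subst e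
    · refine ⟨[Equiv.swap i j], fun x hx => ?_, by simp, fun c hc _ => ?_⟩
      · rw [List.mem_singleton.1 hx]; exact mem_adj hij
      · exact closure_single (Equiv.swap_mul_self i j) hc
    · set k := i.rev with hk
      have hjk : (k : ℕ) = j + 1 := by
        rw [hk, Fin.val_rev]
        rw [Fin.ext_iff, Fin.val_rev] at h
        omega
      have hik : i ≠ k := by rw [Ne, Fin.ext_iff]; omega
      refine ⟨[Equiv.swap i j, Equiv.swap j k, Equiv.swap i j], fun x hx => ?_, ?_, fun c hc hcf => ?_⟩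
      · simp only [List.mem_cons, List.not_mem_nil, or_false] at hx
        rcases hx with rfl | rfl | rfl
        exacts [mem_adj hij, mem_adj hjk, mem_adj hij]
      · simp only [List.prod_cons, List.prod_nil, mul_one, Subgroup.coe_subtype]
        ext x
        simp only [Equiv.Perm.coe_mul, Function.comp_apply, Equiv.swap_apply_def]
        simp only [Fin.ext_iff]
        split_ifs <;> omega
      · have hfix : ∀ x, x ≠ i → x ≠ j → x ≠ k → c x = x := by
          intro x h1 h2 h3
          have hle : Subgroup.closure {y | y ∈ [Equiv.swap i j, Equiv.swap j k, Equiv.swap i j]} ≤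
              MulAction.stabilizer (Equiv.Perm (Fin n)) x := by
            refine (Subgroup.closure_le _).2 fun y hy => ?_
            simp only [Set.mem_ofPred_eq, List.mem_cons, List.not_mem_nil, or_false] at hy
            show y x = x
            rcases hy with rfl | rfl | rfl
            exacts [Equiv.swap_apply_of_ne_of_ne h1 h2, Equiv.swap_apply_of_ne_of_ne h2 h3,
              Equiv.swap_apply_of_ne_of_ne h1 h2]
          exact hle hc
        have hcj : (c j).rev = c j := by rw [← rev_comm (show revConj c = c from hcf), h]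
        have hcj' : c j = j := by
          rw [Fin.ext_iff, Fin.val_rev] at hcj h
          rw [Fin.ext_iff]
          omega
        have hci : c i = i ∨ c i = k := by
          by_contra hh
          push Not at hh
          by_cases h2 : c i = j
          · exact hlt.ne (c.injective (h2.trans hcj'.symm))
          · exact hh.1 (c.injective (hfix _ hh.1 h2 hh.2)).symm.symm
        have hck : c k = (c i).rev := rev_comm (show revConj c = c from hcf) i
        rcases hci with hci | hci
        · refine Or.inl (Equiv.ext fun x => ?_)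
          by_cases h1 : x = i
          · rw [h1, hci]; rfl
          by_cases h2 : x = j
          · rw [h2, hcj']; rfl
          by_cases h3 : x = k
          · rw [h3, hck, hci, ← hk]; rfl
          exact hfix x h1 h2 h3
        · refine Or.inr (Equiv.ext fun x => ?_)
          show c x = Equiv.swap i k x
          by_cases h1 : x = i
          · rw [h1, hci, Equiv.swap_apply_left]
          by_cases h3 : x = k
          · rw [h3, hck, hci, hk, Fin.rev_rev, Equiv.swap_apply_right]
          rw [Equiv.swap_apply_of_ne_of_ne h1 h3]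
          by_cases h2 : x = j
          · rw [h2, hcj']
          exact hfix x h1 h2 h3
    · have hji : j.rev < i.rev := Fin.rev_lt_rev.2 hlt
      have hcomm : Equiv.swap i j * Equiv.swap j.rev i.rev = Equiv.swap j.rev i.rev * Equiv.swap i j := by
        have h' : (j : ℕ) < n - ((j : ℕ) + 1) := by rwa [Fin.lt_def, Fin.val_rev] at h
        ext x
        simp only [Equiv.Perm.coe_mul, Function.comp_apply, Equiv.swap_apply_def, Fin.ext_iff, Fin.val_rev]
        have hvi := Fin.val_rev i
        have hvj := Fin.val_rev j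
        split_ifs <;> omega
      refine ⟨[Equiv.swap i j, Equiv.swap j.rev i.rev], fun x hx => ?_, by simp, fun c hc hcf => ?_⟩
      · simp only [List.mem_cons, List.not_mem_nil, or_false] at hx
        rcases hx with rfl | rfl
        · exact mem_adj hij
        · exact mem_adj (by rw [Fin.val_rev, Fin.val_rev]; omega)
      · rcases closure_pair (Equiv.swap_mul_self i j) (Equiv.swap_mul_self _ _) hcomm hc with
          rfl | rfl | rfl | rfl
        · exact Or.inl rfl
        · exfalso
          have e : Equiv.swap i.rev j.rev = Equiv.swap i j := by rw [← revConj_swap]; exact hcf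
          have := congrArg (fun p : Equiv.Perm (Fin n) => p i) e
          simp only [Equiv.swap_apply_left] at this
          rw [Equiv.swap_apply_of_ne_of_ne ((hlt.trans h).trans hji).ne (hlt.trans h).ne] at this
          exact hlt.ne this
        · exfalso
          have e : Equiv.swap j i = Equiv.swap j.rev i.rev := by
            have h' : revConj (Equiv.swap j.rev i.rev) = Equiv.swap j.rev i.rev := hcf
            rwa [revConj_swap, Fin.rev_rev, Fin.rev_rev] at h'
          have := congrArg (fun p : Equiv.Perm (Fin n) => p i) e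
          simp only [Equiv.swap_apply_right] at this
          rw [Equiv.swap_apply_of_ne_of_ne (hlt.trans h).ne ((hlt.trans h).trans hji).ne] at this
          exact hlt.ne' this
        · exact Or.inr rfl
  Uw_ne s hs := T.exists_fixed_out s.2 (SGen.ne_one hs)

/-- The fixed group. -/
noncomputable abbrev Grp : Subgroup (GL (Fin n) F) := fixedPts T.Θ

/-- The split Tits system of the fixed group. -/
noncomputable def system : Tits.Ambient ↥T.Grp ↥(symPerm n) := T.folding.ambient

theorem system_U : T.system.U = (unitriGL n F).subgroupOf T.Grp := rfl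

theorem system_Uw (w : ↥(symPerm n)) :
    T.system.Uw w = (outPart (F := F) (w : Equiv.Perm (Fin n))⁻¹).subgroupOf T.Grp := rfl

theorem rev_mem_symPerm : Fin.revPerm ∈ symPerm n := by
  show revConj Fin.revPerm = Fin.revPerm
  ext i
  simp [revConj]

theorem outPart_rev : outPart (F := F) (Fin.revPerm : Equiv.Perm (Fin n))⁻¹ = unitriGL n F := by
  ext g
  rw [mem_outPart]
  refine ⟨And.left, fun h => ⟨h, mem_lowerGL.2 fun i j hij => ?_⟩⟩
  rw [perm_conj_apply]
  exact mem_upper.1 (mem_unitri.1 h).1 _ _ (by simpa [Equiv.Perm.inv_def] using hij)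

theorem outPart_inf_rev (π : Equiv.Perm (Fin n)) {g : GL (Fin n) F} (h1 : g ∈ outPart π)
    (h2 : g ∈ outPart (π * Fin.revPerm)) : g = 1 := by
  refine outPart_inf_inPart h1 (mem_inPart.2 ⟨(mem_outPart.1 h1).1, mem_upper.2 fun i j hij => ?_⟩)
  have := mem_lowerGL.1 (mem_outPart.1 h2).2 i.rev j.rev (Fin.rev_lt_rev.2 hij)
  rw [perm_conj_apply] at this ⊢
  simpa using this

theorem not_dvd_card_torus (p : ℕ) [hp : Fact p.Prime] [CharP F p] : ¬ p ∣ Nat.card ↥(torus n F) := by
  cases nonempty_fintype F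
  intro hd
  have h1 : p ∣ Nat.card (Fin n → Fˣ) :=
    hd.trans (Subgroup.card_range_dvd (diagHom n F))
  rw [Nat.card_fun, Nat.card_fin] at h1
  have h2 := hp.out.dvd_of_dvd_pow h1
  rw [card_units', ] at h2
  obtain ⟨f, -, hf⟩ := FiniteField.card F p
  have h3 : p ∣ Fintype.card F := hf ▸ dvd_pow_self p f.ne_zero
  have := Nat.dvd_sub h3 h2
  rw [Nat.sub_sub_self Fintype.card_pos] at this
  exact hp.out.not_dvd_one this

/-- The Steinberg character of the central quotient of a normal subgroup of the fixed group containing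
its unitriangular elements. -/
theorem steinberg (p : ℕ) [Fact p.Prime] [CharP F p] (N : Subgroup ↥T.Grp) [N.Normal]
    (hN : (unitriGL n F).subgroupOf T.Grp ≤ N) {Q : Type*} [Group Q]
    (e : Q ≃* ↥N ⧸ Subgroup.center ↥N) :
    ∃ χ : Q → ℂ, Cfsg.IsIrrCharacter Q χ ∧ ∀ P : Sylow p Q, χ 1 = Nat.card P ∧
      ∀ x : Q, x ∈ P → x ≠ 1 → χ x = 0 := by
  cases nonempty_fintype F
  refine Cfsg.Agent.H83.Classical.steinberg T.system (hU := hN) (p := p)
    (w₀ := ⟨Fin.revPerm, rev_mem_symPerm⟩) ?_ ?_ ?_ ?_ ?_ e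
  · rw [system_Uw, system_U, outPart_rev]
  · intro s hs
    obtain ⟨v, hv, hvf, hv1⟩ := T.exists_fixed_out s.2 (SGen.ne_one hs)
    have hvU : (⟨v, hvf⟩ : ↥T.Grp) ∈ T.system.U := (mem_outPart.1 hv).1
    refine (Subgroup.card_le_of_le (T.system.Uw_le _)).lt_of_ne fun e => ?_
    have heq := Subgroup.eq_of_le_of_card_ge (T.system.Uw_le _) e.ge
    rw [← heq] at hvU
    have h2 : v ∈ outPart (F := F) (Fin.revPerm * (s : Equiv.Perm (Fin n)))⁻¹ := hvU
    rw [_root_.mul_inv_rev, show (Fin.revPerm : Equiv.Perm (Fin n))⁻¹ = Fin.revPerm from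
      Equiv.Perm.inv_def _] at h2
    exact hv1 (outPart_inf_rev _ hv h2)
  · exact ((isPGroup_unitriGL (n := n) (F := F) p).comap_subtype)
  · intro h
    refine not_dvd_card_torus (n := n) (F := F) p (h.trans ?_)
    rw [← Subgroup.card_map_of_injective (f := T.Grp.subtype) T.Grp.subtype_injective]
    exact Subgroup.card_dvd_of_le (Subgroup.map_le_iff_le_comap.2 le_rfl)
  · intro w hw
    obtain ⟨v, hv, hvf, hv1⟩ := T.exists_fixed_out w.2 (fun e => hw (Subtype.ext e))
    intro hbot
    have : (⟨v, hvf⟩ : ↥T.Grp) ∈ (⊥ : Subgroup ↥T.Grp) := hbot ▸ (hv : v ∈ outPart _)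
    exact hv1 (congrArg Subtype.val (Subgroup.mem_bot.1 this))

end TwData

end Cfsg.Agent.H83.Classical
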