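import Cfsg.Agent.H37.Tits.Ambient
import Cfsg.Agent.H52.TwistedBruhat

/-!
The general linear group over a finite field as a split Tits system, with representatives
`diag (f w) * perm w` for an arbitrary choice of the diagonal parts.
-/

set_option autoImplicit false
set_option linter.unusedSectionVars false
set_option linter.unusedFintypeInType false

namespace Cfsg.Agent.H83.Classical

open Matrix Equiv Cfsg.Agent.Linear Cfsg.Agent.H54 Cfsg.Agent.H52.TwistedBruhat
open Cfsg.Agent.H37
open scoped MatrixGroups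

variable {n : ℕ} {F : Type*} [Field F]

/-- Diagonal matrices as a homomorphism. -/
noncomputable def diagHom (n : ℕ) (F : Type*) [Field F] : (Fin n → Fˣ) →* GL (Fin n) F where
  toFun d := diagGL d
  map_one' := diagGL_one
  map_mul' := diagGL_mul

/-- The diagonal torus. -/
noncomputable def torus (n : ℕ) (F : Type*) [Field F] : Subgroup (GL (Fin n) F) := (diagHom n F).range

theorem diag_mem_torus (d : Fin n → Fˣ) : diagGL d ∈ torus n F := ⟨d, rfl⟩

theorem exists_of_mem_torus {h : GL (Fin n) F} (hh : h ∈ torus n F) : ∃ d, h = diagGL d := by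
  obtain ⟨d, rfl⟩ := hh
  exact ⟨d, rfl⟩

theorem torus_le_upper : torus n F ≤ upperTriangularGL n F := by
  intro h hh
  obtain ⟨d, rfl⟩ := exists_of_mem_torus hh
  exact diag_mem_upper d

theorem eq_one_of_torus_unitri {g : GL (Fin n) F} (h1 : g ∈ torus n F) (h2 : g ∈ unitriGL n F) :
    g = 1 := by
  obtain ⟨d, rfl⟩ := exists_of_mem_torus h1
  refine eq_one_of_triangular (diag_mem_upper d) (mem_lowerGL.2 fun i j hij => ?_) (mem_unitri.1 h2).2
  rw [diagGL_coe, diagonal_apply_ne _ hij.ne]

theorem permGL_one : permGL F (1 : Equiv.Perm (Fin n)) = 1 := by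
  apply Units.ext
  ext r s
  rw [permGL_apply, Units.val_one, Matrix.one_apply]
  congr 1

theorem perm_conj_diag (π : Equiv.Perm (Fin n)) (d : Fin n → Fˣ) :
    permGL F π * diagGL d * (permGL F π)⁻¹ = diagGL (fun i => d (π⁻¹ i)) := by
  rw [show permGL F π * diagGL d = diagGL (fun i => d (π⁻¹ i)) * permGL F π by
    rw [diag_perm]; simp, mul_inv_cancel_right]

theorem perm_conj_torus (π : Equiv.Perm (Fin n)) {h : GL (Fin n) F} (hh : h ∈ torus n F) :
    permGL F π * h * (permGL F π)⁻¹ ∈ torus n F := by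
  obtain ⟨d, rfl⟩ := exists_of_mem_torus hh
  rw [perm_conj_diag]; exact diag_mem_torus _

theorem torus_conj_unitri {h u : GL (Fin n) F} (hh : h ∈ torus n F) (hu : u ∈ unitriGL n F) :
    h * u * h⁻¹ ∈ unitriGL n F := by
  obtain ⟨d, rfl⟩ := exists_of_mem_torus hh
  refine mem_unitri.2 ⟨mem_upper.2 fun i j h => ?_, fun i => ?_⟩
  · rw [diag_conj_apply, mem_upper.1 (mem_unitri.1 hu).1 i j h, mul_zero, zero_mul]
  · rw [diag_conj_apply, (mem_unitri.1 hu).2, mul_one]; simp

theorem torus_conj_unitri' {h u : GL (Fin n) F} (hh : h ∈ torus n F) (hu : u ∈ unitriGL n F) :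
    h⁻¹ * u * h ∈ unitriGL n F := by
  simpa using torus_conj_unitri (inv_mem hh) hu

theorem torus_conj_outPart {π : Equiv.Perm (Fin n)} {h u : GL (Fin n) F} (hh : h ∈ torus n F)
    (hu : u ∈ outPart π) : h * u * h⁻¹ ∈ outPart π := by
  rw [mem_outPart] at hu ⊢
  refine ⟨torus_conj_unitri hh hu.1, mem_lowerGL.2 fun i j hij => ?_⟩
  obtain ⟨d, rfl⟩ := exists_of_mem_torus hh
  have := mem_lowerGL.1 hu.2 i j hij
  rw [perm_conj_apply] at this ⊢
  rw [diag_conj_apply, this, mul_zero, zero_mul]

theorem exists_unitri_mul_torus {b : GL (Fin n) F} (hb : b ∈ upperTriangularGL n F) :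
    ∃ u ∈ unitriGL n F, ∃ h ∈ torus n F, b = u * h := by
  obtain ⟨d, hd, -⟩ := exists_diag hb
  exact ⟨_, hd, _, diag_mem_torus d, by rw [inv_mul_cancel_right]⟩

/-! ### Root elements -/

/-- The root element `1 + a E_{ij}`. -/
noncomputable def xGL {i j : Fin n} (h : i ≠ j) (a : F) : GL (Fin n) F where
  val := Matrix.transvection i j a
  inv := Matrix.transvection i j (-a)
  val_inv := by rw [transvection_mul_transvection_same _ _ h, add_neg_cancel, transvection_zero]
  inv_val := by rw [transvection_mul_transvection_same _ _ h, neg_add_cancel, transvection_zero]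

theorem xGL_inv {i j : Fin n} (h : i ≠ j) (a : F) : (xGL h a)⁻¹ = xGL h (-a) := Units.ext rfl

theorem xGL_apply {i j : Fin n} (h : i ≠ j) (a : F) (r c : Fin n) :
    (xGL h a : Matrix (Fin n) (Fin n) F) r c =
      (if r = c then 1 else 0) + (if r = i ∧ c = j then a else 0) := by
  show Matrix.transvection i j a r c = _
  simp only [Matrix.transvection, Matrix.add_apply, Matrix.one_apply, Matrix.single_apply]
  congr 1
  congr 1
  exact propext ⟨fun h => ⟨h.1.symm, h.2.symm⟩, fun h => ⟨h.1.symm, h.2.symm⟩⟩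

theorem xGL_ne_one {i j : Fin n} (h : i ≠ j) {a : F} (ha : a ≠ 0) : xGL h a ≠ 1 := by
  intro e
  have := congrArg (fun g : GL (Fin n) F => (g : Matrix (Fin n) (Fin n) F) i j) e
  simp [xGL_apply, h] at this
  exact ha this

theorem xGL_mem_unitri {i j : Fin n} (h : i < j) (a : F) : xGL h.ne a ∈ unitriGL n F := by
  refine mem_unitri.2 ⟨mem_upper.2 fun r c hrc => ?_, fun r => ?_⟩
  · rw [xGL_apply, if_neg hrc.ne', if_neg (fun e => absurd h (by rw [← e.1, ← e.2]; exact hrc.asymm)), add_zero]
  · rw [xGL_apply, if_pos rfl, if_neg (fun e => h.ne (e.1.symm.trans e.2)), add_zero]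

theorem xGL_mem_outPart {i j : Fin n} (h : i < j) (a : F) {π : Equiv.Perm (Fin n)}
    (hπ : π⁻¹ j < π⁻¹ i) : xGL h.ne a ∈ outPart π := by
  refine mem_outPart.2 ⟨xGL_mem_unitri h a, mem_lowerGL.2 fun r c hrc => ?_⟩
  rw [perm_conj_apply, xGL_apply, if_neg (fun e => hrc.ne (π.injective e)),
    if_neg (fun e => absurd hπ (by rw [← e.1, ← e.2]; simpa using hrc.asymm)), add_zero]

theorem xGL_mul_perm (π : Equiv.Perm (Fin n)) {i j : Fin n} (h : i ≠ j) (a : F) :
    xGL h a * permGL F π = permGL F π * xGL (π⁻¹.injective.ne h) a := by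
  apply Units.ext
  ext r c
  simp only [Units.val_mul, Matrix.mul_apply, permGL_apply, mul_ite, mul_one, mul_zero, ite_mul,
    one_mul, zero_mul, Finset.sum_ite_eq', Finset.mem_univ, if_true]
  rw [Finset.sum_eq_single (π⁻¹ r) (fun k _ hk => if_neg fun e => hk (by simp [e]))
    (fun h => absurd (Finset.mem_univ _) h), if_pos (by simp), xGL_apply, xGL_apply]
  simp only [Equiv.Perm.inv_eq_iff_eq, Equiv.Perm.eq_inv_iff_eq, π.injective.eq_iff,
    Equiv.Perm.coe_inv, Equiv.apply_symm_apply, EmbeddingLike.apply_eq_iff_eq]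
  congr 1
  · congr 1
    exact propext ⟨fun e => by rw [e]; simp, fun e => by rw [← e]; simp⟩
  · congr 1
    exact propext ⟨fun ⟨e1, e2⟩ => ⟨by rw [e1], by rw [← e2]; simp⟩,
      fun ⟨e1, e2⟩ => ⟨by simpa using congrArg π e1, by rw [e2]; simp⟩⟩

theorem mul_xGL_apply (g : GL (Fin n) F) {i j : Fin n} (h : i ≠ j) (a : F) (r c : Fin n) :
    ((g * xGL h a : GL (Fin n) F) : Matrix (Fin n) (Fin n) F) r c =
      (g : Matrix (Fin n) (Fin n) F) r c +
        if c = j then (g : Matrix (Fin n) (Fin n) F) r i * a else 0 := by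
  show ((g : Matrix (Fin n) (Fin n) F) * Matrix.transvection i j a) r c = _
  by_cases hc : c = j
  · subst hc
    rw [if_pos rfl, Matrix.mul_transvection_apply_same]
    ring
  · rw [if_neg hc, Matrix.mul_transvection_apply_of_ne (hb := hc), add_zero]

/-- The relation `s x(t) = x(1/t) d x'(1/t)` in the rank one group. -/
theorem swap_mul_xGL {i j : Fin n} (h : i ≠ j) {t : F} (ht : t ≠ 0) :
    ∃ d ∈ torus n F, permGL F (Equiv.swap i j) * xGL h t = xGL h t⁻¹ * d * xGL h.symm t⁻¹ := by
  classical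
  let d : Fin n → Fˣ := fun r =>
    if r = i then Units.mk0 (-t⁻¹) (by simp [ht]) else if r = j then Units.mk0 t ht else 1
  refine ⟨diagGL d, diag_mem_torus d, ?_⟩
  apply Units.ext
  ext r c
  rw [Units.val_mul, Units.val_mul, Units.val_mul, diagGL_coe]
  show ((permGL F (Equiv.swap i j) : Matrix (Fin n) (Fin n) F) * Matrix.transvection i j t) r c =
    (Matrix.transvection i j t⁻¹ * Matrix.diagonal (fun r => (d r : F)) * Matrix.transvection j i t⁻¹) r c
  have e1 : ∀ b, ((permGL F (Equiv.swap i j) : Matrix (Fin n) (Fin n) F)) r b =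
      if Equiv.swap i j r = b then 1 else 0 := fun b => by
    rw [permGL_apply]
    congr 1
    exact propext ⟨fun e => by rw [e, Equiv.swap_apply_self], fun e => by rw [← e, Equiv.swap_apply_self]⟩
  have e2 : ∀ a b, (Matrix.transvection i j t⁻¹ * Matrix.diagonal (fun r => (d r : F))) a b =
      ((if a = b then 1 else 0) + (if a = i ∧ b = j then t⁻¹ else 0)) * (d b : F) := fun a b => by
    rw [Matrix.mul_diagonal]
    exact congrArg (· * _) (xGL_apply h t⁻¹ a b)
  by_cases hc : c = j
  · subst hc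
    rw [Matrix.mul_transvection_apply_same, Matrix.mul_transvection_apply_of_ne (hb := h.symm), e1, e1, e2]
    by_cases hri : r = i
    · subst hri; simp [d, h, h.symm, ht]
    by_cases hrc : r = c
    · subst hrc; simp [d, h, h.symm, ht]
    · simp [Equiv.swap_apply_of_ne_of_ne hri hrc, hri, hrc]
  · rw [Matrix.mul_transvection_apply_of_ne (hb := hc), e1]
    by_cases hci : c = i
    · subst hci
      rw [Matrix.mul_transvection_apply_same, e2, e2]
      by_cases hri : r = c
      · subst hri; simp [d, h, h.symm, ht]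
      by_cases hrj : r = j
      · subst hrj; simp [d, h, h.symm, ht]
      · simp [Equiv.swap_apply_of_ne_of_ne hri hrj, hri, hrj]
    · rw [Matrix.mul_transvection_apply_of_ne (hb := hci), e2]
      by_cases hri : r = i
      · subst hri; simp [d, h, h.symm, hc, Ne.symm hc, Ne.symm hci]
      by_cases hrj : r = j
      · subst hrj; simp [d, h, h.symm, Ne.symm hc, Ne.symm hci]
      · simp [Equiv.swap_apply_of_ne_of_ne hri hrj, d, hci, hc, hri, hrj]

/-! ### The Tits system -/

/-- Adjacent transpositions. -/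
def adj (n : ℕ) : Set (Equiv.Perm (Fin n)) := {s | ∃ i j : Fin n, (j : ℕ) = i + 1 ∧ s = Equiv.swap i j}

theorem closure_adj : Subgroup.closure (adj n) = ⊤ := by
  rcases n with _ | k
  · exact Subsingleton.elim _ _
  refine eq_top_iff.2 fun x hxt => ?_
  clear hxt
  have h := Equiv.Perm.mclosure_swap_castSucc_succ k
  have hx : x ∈ (Submonoid.closure (Set.range fun i : Fin k => Equiv.swap i.castSucc i.succ)) := by
    rw [h]; trivial
  induction hx using Submonoid.closure_induction with
  | mem s hs =>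
    obtain ⟨i, rfl⟩ := hs
    exact Subgroup.subset_closure ⟨i.castSucc, i.succ, by simp, rfl⟩
  | one => exact one_mem _
  | mul a b _ _ ha hb => exact mul_mem ha hb

/-- An element of the big group in a cell, recognised through permutation matrices. -/
theorem inCell_perm (f : Equiv.Perm (Fin n) → Fin n → Fˣ) {u d v : GL (Fin n) F} {w : Equiv.Perm (Fin n)}
    (hu : u ∈ unitriGL n F) (hd : d ∈ torus n F) (hv : v ∈ unitriGL n F) :
    Tits.InCell (unitriGL n F) (torus n F) (diagGL (f w) * permGL F w) (u * d * permGL F w * v) :=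
  ⟨u, hu, d * (diagGL (f w))⁻¹, mul_mem hd (inv_mem (diag_mem_torus _)), v, hv, 1, one_mem _, by group⟩

/-- The rank one step on permutation matrices. -/
theorem perm_step {i j : Fin n} (hij : (j : ℕ) = i + 1) {u : GL (Fin n) F} (hu : u ∈ unitriGL n F)
    (w : Equiv.Perm (Fin n)) :
    ∃ x, (x = Equiv.swap i j * w ∨ x = w) ∧ ∃ u₁ ∈ unitriGL n F, ∃ d ∈ torus n F, ∃ v ∈ unitriGL n F,
      permGL F (Equiv.swap i j) * u * permGL F w = u₁ * d * permGL F x * v := by
  have hlt : i < j := Fin.lt_def.2 (by omega)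
  set t : F := (u : Matrix (Fin n) (Fin n) F) i j
  set u' := u * xGL hlt.ne (-t)
  have hu' : u' ∈ unitriGL n F := mul_mem hu (xGL_mem_unitri hlt _)
  have he : (u' : Matrix (Fin n) (Fin n) F) i j = 0 := by
    rw [show (u' : Matrix (Fin n) (Fin n) F) i j = _ from mul_xGL_apply u hlt.ne (-t) i j, if_pos rfl,
      (mem_unitri.1 hu).2]
    simp [t]
  have hu2 : permGL F (Equiv.swap i j) * u' * (permGL F (Equiv.swap i j))⁻¹ ∈ unitriGL n F := by
    have hcf : permGL F (Equiv.swap i j) * u' * (permGL F (Equiv.swap i j))⁻¹ =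
        (permGL F (Equiv.swap i j))⁻¹ * u' * permGL F (Equiv.swap i j) := by
      rw [permGL_inv, Equiv.swap_inv]
    rw [hcf]
    refine mem_unitri.2 ⟨mem_upper.2 fun r c hrc => ?_, fun r => ?_⟩
    · rw [perm_conj_apply]
      rcases lt_trichotomy (Equiv.swap i j c) (Equiv.swap i j r) with h' | h' | h'
      · exact mem_upper.1 (mem_unitri.1 hu').1 _ _ h'
      · exact absurd ((Equiv.swap i j).injective h') hrc.ne
      · have hrc' : (c : ℕ) < r := hrc
        rw [Fin.lt_def] at h'
        by_cases hri : r = i <;> by_cases hrj : r = j <;> by_cases hci : c = i <;> by_cases hcj : c = j <;>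
          simp_all [Equiv.swap_apply_def, Fin.ext_iff] <;>
          omega
    · rw [perm_conj_apply, (mem_unitri.1 hu').2]
  have hxe : u' * xGL hlt.ne t = u := by
    rw [show u' = u * (xGL hlt.ne t)⁻¹ by rw [xGL_inv], inv_mul_cancel_right]
  have key : permGL F (Equiv.swap i j) * u * permGL F w =
      (permGL F (Equiv.swap i j) * u' * (permGL F (Equiv.swap i j))⁻¹) *
        (permGL F (Equiv.swap i j) * xGL hlt.ne t * permGL F w) := by
    rw [← hxe]; group
  by_cases hw : w⁻¹ i < w⁻¹ j
  · refine ⟨Equiv.swap i j * w, Or.inl rfl, _, hu2, 1, one_mem _, xGL hw.ne t, xGL_mem_unitri hw t, ?_⟩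
    rw [key, mul_assoc (permGL F (Equiv.swap i j)) (xGL hlt.ne t), xGL_mul_perm w hlt.ne, mul_one,
      permGL_mul]
    group
  · have hw' : w⁻¹ j < w⁻¹ i := lt_of_le_of_ne (not_lt.1 hw) (w⁻¹.injective.ne hlt.ne')
    by_cases ht : t = 0
    · refine ⟨Equiv.swap i j * w, Or.inl rfl, _, hu2, 1, one_mem _, 1, one_mem _, ?_⟩
      have hx1 : xGL hlt.ne t = 1 := Units.ext (by
        show Matrix.transvection i j t = 1
        rw [ht, transvection_zero])
      rw [key, hx1, mul_one, mul_one, permGL_mul]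
      group
    · obtain ⟨d, hd, e⟩ := swap_mul_xGL hlt.ne ht
      refine ⟨w, Or.inr rfl, _, mul_mem hu2 (xGL_mem_unitri hlt t⁻¹), d, hd, xGL hw'.ne t⁻¹,
        xGL_mem_unitri hw' _, ?_⟩
      rw [key, e, mul_assoc (xGL hlt.ne t⁻¹ * d), xGL_mul_perm w hlt.ne.symm]
      group

/-- The split Tits system of the general linear group with chosen representatives. -/
noncomputable def glAmb [Finite F] (f : Equiv.Perm (Fin n) → Fin n → Fˣ) (hf : f 1 = 1) :
    Tits.Ambient (GL (Fin n) F) (Equiv.Perm (Fin n)) where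
  U := unitriGL n F
  H := torus n F
  n w := diagGL (f w) * permGL F w
  Uw w := outPart w⁻¹
  exists_eq g := by
    obtain ⟨π, a, ha, b, hb, e⟩ := exists_canonical g⁻¹
    obtain ⟨u, hu, h, hh, e2⟩ := exists_unitri_mul_torus (inv_mem hb)
    refine ⟨u, hu, h * (diagGL (f π⁻¹))⁻¹, mul_mem hh (inv_mem (diag_mem_torus _)), π⁻¹, a⁻¹, ?_, ?_⟩
    · rw [inv_inv]; exact inv_mem ha
    · rw [← inv_inv g, e, _root_.mul_inv_rev, _root_.mul_inv_rev, e2, permGL_inv]
      group
  unique {u u' h h' v v' w w'} hu hu' hh hh' hv hv' e := by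
    have hd : diagGL (f w) ∈ torus n F := diag_mem_torus _
    have hd' : diagGL (f w') ∈ torus n F := diag_mem_torus _
    have e' : v⁻¹ * permGL F w⁻¹ * (u * h * diagGL (f w))⁻¹ =
        v'⁻¹ * permGL F w'⁻¹ * (u' * h' * diagGL (f w'))⁻¹ := by
      rw [← permGL_inv, ← permGL_inv]
      have := congrArg (fun g => g⁻¹) e
      simpa [mul_assoc] using this
    obtain ⟨h1, h2, h3⟩ := unique (inv_mem hv) (inv_mem hv')
      (inv_mem (mul_mem (mul_mem (unitri_le_upper hu) (torus_le_upper hh)) (torus_le_upper hd)))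
      (inv_mem (mul_mem (mul_mem (unitri_le_upper hu') (torus_le_upper hh')) (torus_le_upper hd'))) e'
    obtain rfl : w = w' := inv_inj.1 h1
    have h4 : u * h = u' * h' := mul_right_cancel (inv_inj.1 h3)
    have h5 : u'⁻¹ * u = h' * h⁻¹ := by rw [eq_mul_inv_iff_mul_eq, mul_assoc, h4, inv_mul_cancel_left]
    have h6 := eq_one_of_torus_unitri (h5 ▸ mul_mem hh' (inv_mem hh)) (mul_mem (inv_mem hu') hu)
    obtain rfl : u = u' := (inv_mul_eq_one.1 h6).symm
    exact ⟨rfl, rfl, mul_left_cancel h4, inv_inj.1 h2⟩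
  S := adj n
  closure_S := closure_adj
  sq_S := by
    rintro _ ⟨i, j, -, rfl⟩
    exact Equiv.swap_mul_self i j
  n_one := by rw [hf, diagGL_one, permGL_one, mul_one]
  n_mul a b := by
    refine ⟨diagGL (f a) * (permGL F a * diagGL (f b) * (permGL F a)⁻¹) * (diagGL (f (a * b)))⁻¹,
      mul_mem (mul_mem (diag_mem_torus _) (perm_conj_torus a (diag_mem_torus _)))
        (inv_mem (diag_mem_torus _)), ?_⟩
    rw [permGL_mul]
    group
  n_conj_H w h hh := by
    have := mul_mem (mul_mem (diag_mem_torus (f w)) (perm_conj_torus w hh))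
      (inv_mem (diag_mem_torus (f w)))
    simpa [mul_assoc] using this
  H_conj_U _ hh _ hu := torus_conj_unitri hh hu
  Uw_le _ _ hv := (mem_outPart.1 hv).1
  Uw_one := by
    rw [inv_one, Subgroup.eq_bot_iff_forall]
    intro g hg
    rw [mem_outPart, permGL_one, inv_one, one_mul, mul_one] at hg
    exact eq_one_of_triangular (mem_unitri.1 hg.1).1 hg.2 (mem_unitri.1 hg.1).2
  Uw_S_ne := by
    rintro _ ⟨i, j, hij, rfl⟩ hbot
    have hlt : i < j := Fin.lt_def.2 (by omega)
    have : xGL hlt.ne (1 : F) ∈ (⊥ : Subgroup (GL (Fin n) F)) := hbot ▸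
      xGL_mem_outPart hlt 1 (by simpa [Equiv.swap_inv] using hlt)
    exact xGL_ne_one hlt.ne one_ne_zero (Subgroup.mem_bot.1 this)
  cell_step := by
    rintro _ ⟨i, j, hij, rfl⟩ u hu w
    set ds := diagGL (f (Equiv.swap i j))
    set dw := diagGL (f w)
    set d₀ := ds * (permGL F (Equiv.swap i j) * dw * (permGL F (Equiv.swap i j))⁻¹)
    have hd₀ : d₀ ∈ torus n F :=
      mul_mem (diag_mem_torus _) (perm_conj_torus _ (diag_mem_torus _))
    obtain ⟨x, hx, u₁, hu₁, d, hd, v, hv, e⟩ :=
      perm_step hij (torus_conj_unitri' (diag_mem_torus (f w)) hu) w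
    have e' : ds * permGL F (Equiv.swap i j) * u * (dw * permGL F w) =
        (d₀ * u₁ * d₀⁻¹) * (d₀ * d) * permGL F x * v := by
      calc _ = d₀ * (permGL F (Equiv.swap i j) * (dw⁻¹ * u * dw) * permGL F w) := by
            simp only [d₀]; group
        _ = d₀ * (u₁ * d * permGL F x * v) := by rw [e]
        _ = _ := by group
    rw [e']
    rcases hx with rfl | rfl
    · exact Or.inl (inCell_perm f (torus_conj_unitri hd₀ hu₁) (mul_mem hd₀ hd) hv)
    · exact Or.inr (inCell_perm f (torus_conj_unitri hd₀ hu₁) (mul_mem hd₀ hd) hv)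

end Cfsg.Agent.H83.Classical
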