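import Cfsg.Agent.H37.Tits.Ambient
import Cfsg.Agent.H54.BNSteinberg

/-!
The longest element of a split Tits system and `B ∩ n₀ B n₀⁻¹ = H` (as in `H54.ChevSteinberg`,
without the Chevalley data).
-/

set_option autoImplicit false
set_option linter.unusedSectionVars false

namespace Cfsg.Agent.H83.Classical.Longest

open Cfsg.Agent.H28 Cfsg.Agent.H54.BNC
open Cfsg.Agent.H37 (Tits.Ambient Tits.InCell)
open Cfsg.Agent.H54

section Ambient

variable {G W : Type*} [Group G] [Group W] [Finite G] (A : Tits.Ambient G W) {w₀ : W}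

theorem mem_dc_iff {x : G} {w : W} :
    x ∈ dc A.pair (A.n w) ↔ Tits.InCell A.U A.H (A.n w) x := by
  rw [A.inCell_iff, mem_dc]
  rfl

/-- An element with full `Uw` has all descents. -/
theorem allDesc_of_full (hw₀ : A.Uw w₀ = A.U)
    (hlt : ∀ s ∈ A.S, Nat.card (A.Uw (w₀ * s)) < Nat.card A.U) : AllDesc A.pair (A.n w₀) := by
  intro x hx
  obtain ⟨s, hs, rfl⟩ : x ∈ A.n '' A.S := hx
  have hn : A.n w₀ ∈ A.pair.N := A.n_mem_N _
  have hsn : A.n s ∈ A.pair.N := A.n_mem_N _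
  by_contra hcon
  have h1 : len A.pair (A.n s) ≤ 1 := len_le (rep_single (P := A.pair) ⟨s, hs, rfl⟩)
  have h2 := len_mul_le hn hsn
  have hne : len A.pair (A.n w₀ * A.n s) ≠ len A.pair (A.n w₀) := by
    have := len_cases_right (P := A.pair) (s := A.n s) ⟨s, hs, rfl⟩ hn
    omega
  have hadd : len A.pair (A.n w₀ * A.n s) = len A.pair (A.n w₀) + len A.pair (A.n s) := by omega
  obtain ⟨k, hk, ek⟩ := A.n_mul w₀ s
  have hdc : dc A.pair (A.n w₀ * A.n s) = dc A.pair (A.n (w₀ * s)) := by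
    rw [ek]; exact dc_mul_left _ (A.H_le_B hk)
  have hf : ∀ p : ↥A.U × ↥A.H × ↥A.U, ∃ q : ↥A.U × ↥A.H × ↥(A.Uw (w₀ * s)),
      (p.1 : G) * p.2.1 * A.n w₀ * p.2.2 * A.n s = (q.1 : G) * q.2.1 * A.n (w₀ * s) * q.2.2 := by
    rintro ⟨⟨u, hu⟩, ⟨h, hh⟩, ⟨v, hv⟩⟩
    have hg : u * h * A.n w₀ * v ∈ dc A.pair (A.n w₀) :=
      (mem_dc A.pair).2 ⟨u * h, ⟨u, hu, h, hh, rfl⟩, v, A.U_le_B hv, rfl⟩
    have hm := mul_mem_dc_additive hn hsn hadd hg (self_mem_dc A.pair (A.n s))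
    rw [hdc, mem_dc_iff] at hm
    obtain ⟨u', hu', h', hh', w', v', hv', e⟩ := A.exists_eq (u * h * A.n w₀ * v * A.n s)
    rw [e] at hm
    obtain rfl := A.index_eq hu' hh' hv' hm
    exact ⟨(⟨u', hu'⟩, ⟨h', hh'⟩, ⟨v', hv'⟩), e⟩
  choose f hf using hf
  have hinj : Function.Injective f := by
    intro p p' e
    have h3 := (hf p).trans (e ▸ (hf p').symm)
    have h4 := A.unique p.1.2 p'.1.2 p.2.1.2 p'.2.1.2 (hw₀.symm ▸ p.2.2.2) (hw₀.symm ▸ p'.2.2.2)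
      (mul_right_cancel h3)
    exact Prod.ext (Subtype.ext h4.2.1) (Prod.ext (Subtype.ext h4.2.2.1) (Subtype.ext h4.2.2.2))
  have hle := Nat.card_le_card_of_injective f hinj
  rw [Nat.card_prod, Nat.card_prod, Nat.card_prod, Nat.card_prod, ← mul_assoc, ← mul_assoc] at hle
  have hpos : 0 < Nat.card A.U * Nat.card A.H := Nat.mul_pos Nat.card_pos Nat.card_pos
  have := Nat.le_of_mul_le_mul_left hle hpos
  have := hlt s hs
  omega

/-- The representative of the abstract longest element. -/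
theorem n0_eq (hA : AllDesc A.pair (A.n w₀)) : ∃ t ∈ A.H, BNSt.n0 A.pair = A.n w₀ * t := by
  have hn : A.n w₀ ∈ A.pair.N := A.n_mem_N _
  obtain ⟨w, hw⟩ := BNSt.exists_idx A.pair hn
  have hw' : AllDesc A.pair (BNSt.rep A.pair w) := by
    intro s hs
    rw [len_congr (eqv_right hn (BNSt.rep_mem _ w) (S_mem_N hs) hw), len_congr hw]
    exact hA s hs
  rw [BNSt.eq_w0 A.pair hw'] at hw
  refine ⟨(A.n w₀)⁻¹ * BNSt.n0 A.pair, ?_, by group⟩
  rw [← A.B_inf_N]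
  exact Subgroup.mem_inf.2 ⟨hw, mul_mem (inv_mem hn) (BNSt.n0_mem A.pair)⟩

/-- `B` meets its conjugate by the longest element in `H`. -/
theorem inf_conj (hw₀ : A.Uw w₀ = A.U) (hA : AllDesc A.pair (A.n w₀)) :
    A.B ⊓ A.B.map (MulAut.conj (BNSt.n0 A.pair)).toMonoidHom = A.H := by
  obtain ⟨t, ht, e⟩ := n0_eq A hA
  rw [e]
  ext b
  rw [Subgroup.mem_inf, Subgroup.mem_map_equiv, MulAut.conj_symm_apply]
  constructor
  · rintro ⟨hb, hb'⟩
    have hb2 : (A.n w₀)⁻¹ * b * A.n w₀ ∈ A.B := by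
      have := mul_mem (mul_mem (A.H_le_B ht) hb') (inv_mem (A.H_le_B ht))
      simpa [mul_assoc] using this
    obtain ⟨u, hu, h, hh, rfl⟩ := hb
    obtain ⟨u', hu', h', hh', e2⟩ := hb2
    have e3 : u * h * A.n w₀ * 1 =
        1 * (A.n w₀ * h' * (A.n w₀)⁻¹) * A.n w₀ * (h'⁻¹ * u' * h') := by
      calc u * h * A.n w₀ * 1 = A.n w₀ * ((A.n w₀)⁻¹ * (u * h) * A.n w₀) := by group
        _ = _ := by rw [e2]; group
    have hv : h'⁻¹ * u' * h' ∈ A.Uw w₀ := by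
      rw [hw₀]
      simpa using A.H_conj_U h'⁻¹ (inv_mem hh') u' hu'
    rw [(A.unique hu (one_mem _) hh (A.n_conj_H w₀ h' hh') (one_mem _) hv e3).2.1, one_mul]
    exact hh
  · intro hb
    refine ⟨A.H_le_B hb, A.H_le_B ?_⟩
    have := mul_mem (mul_mem (inv_mem ht) (A.n_conj_H' w₀ hb)) ht
    simpa [mul_assoc] using this

theorem card_B : Nat.card A.B = Nat.card A.U * Nat.card A.H := by
  rw [← Nat.card_prod]
  refine (Nat.card_congr (Equiv.ofBijective (fun p : ↥A.U × ↥A.H =>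
    (⟨p.1.1 * p.2.1, p.1.1, p.1.2, p.2.1, p.2.2, rfl⟩ : ↥A.B)) ⟨?_, ?_⟩)).symm
  · rintro ⟨⟨u, hu⟩, ⟨h, hh⟩⟩ ⟨⟨u', hu'⟩, ⟨h', hh'⟩⟩ e
    have e' : u * h = u' * h' := congrArg Subtype.val e
    have := A.unique hu hu' hh hh' (one_mem (A.Uw 1)) (one_mem (A.Uw 1))
      (show u * h * A.n 1 * 1 = u' * h' * A.n 1 * 1 by rw [e'])
    exact Prod.ext (Subtype.ext this.2.1) (Subtype.ext this.2.2.1)
  · rintro ⟨b, u, hu, h, hh, rfl⟩
    exact ⟨(⟨u, hu⟩, ⟨h, hh⟩), rfl⟩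

theorem index_H : (A.H.subgroupOf A.B).index = Nat.card A.U := by
  have h := Subgroup.card_mul_index (A.H.subgroupOf A.B)
  rw [Nat.card_congr (Subgroup.subgroupOfEquivOfLe A.H_le_B).toEquiv, card_B,
    mul_comm (Nat.card A.U)] at h
  exact Nat.eq_of_mul_eq_mul_left Nat.card_pos h

end Ambient

end Cfsg.Agent.H83.Classical.Longest
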