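import Cfsg.Prelude.Def_Classical
import Cfsg.Agent.H83.Classical.Forms

/-!
The orthogonal group of plus type in the antidiagonal basis inside the fixed group of the twist by the
antidiagonal form: isotropic columns, and the splitting of its Bruhat normal forms.
-/

set_option autoImplicit false
set_option linter.unusedSectionVars false
set_option linter.unusedFintypeInType false

namespace Cfsg.Agent.H83.Classical.OPlus

open Matrix Equiv Cfsg.Agent.Linear Cfsg.Agent.H54 Cfsg.Agent.H52.TwistedBruhat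
open Cfsg.Agent.H37 NormalForm
open scoped MatrixGroups

/-- The dimension. -/
abbrev dim (m : ℕ) : ℕ := (m + 1) + (m + 1)

variable {m : ℕ} {F : Type*} [Field F]

/-- The hyperbolic form in the antidiagonal basis. -/
def qPlus (v : Fin (dim m) → F) : F :=
  ∑ r : Fin (m + 1), v (Fin.castAdd (m + 1) r) * v (Fin.castAdd (m + 1) r).rev

theorem polar_sum (x y : Fin (dim m) → F) :
    qPlus (x + y) = qPlus x + qPlus y + ∑ j : Fin (dim m), x j * y j.rev := by
  rw [Fin.sum_univ_add (fun j : Fin (dim m) => x j * y j.rev)]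
  have h2 : ∑ i : Fin (m + 1), x (Fin.natAdd (m + 1) i) * y (Fin.natAdd (m + 1) i).rev =
      ∑ i : Fin (m + 1), y (Fin.castAdd (m + 1) i) * x (Fin.castAdd (m + 1) i).rev := by
    rw [← Equiv.sum_comp Fin.revPerm]
    refine Finset.sum_congr rfl fun i _ => ?_
    have h1 : (Fin.natAdd (m + 1) i.rev : Fin (dim m)) = (Fin.castAdd (m + 1) i).rev :=
      Fin.ext (by
        simp only [Fin.val_natAdd, Fin.val_rev, Fin.val_castAdd]
        have := i.isLt
        omega)
    rw [Fin.revPerm_apply, h1, Fin.rev_rev]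
    ring
  rw [h2]
  simp only [qPlus, Pi.add_apply, ← Finset.sum_add_distrib]
  exact Finset.sum_congr rfl fun i _ => by ring

theorem qPlus_smul (c : F) (x : Fin (dim m) → F) : qPlus (c • x) = c ^ 2 * qPlus x := by
  simp only [qPlus, Pi.smul_apply, smul_eq_mul, Finset.mul_sum]
  exact Finset.sum_congr rfl fun i _ => by ring

theorem qPlus_zero : qPlus (0 : Fin (dim m) → F) = 0 := by simp [qPlus]

theorem qPlus_of_disjoint {x : Fin (dim m) → F} (h : ∀ r, x r * x r.rev = 0) : qPlus x = 0 :=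
  Finset.sum_eq_zero fun r _ => h _

theorem rev_ne (r : Fin (dim m)) : r.rev ≠ r := by
  intro h
  rw [Fin.ext_iff, Fin.val_rev] at h
  have := r.isLt
  simp only [dim] at *
  omega

theorem qPlus_single (j : Fin (dim m)) (c : F) : qPlus (Pi.single j c) = 0 := by
  refine qPlus_of_disjoint fun r => ?_
  by_cases h : r = j
  · subst h
    rw [Pi.single_eq_of_ne (rev_ne r), mul_zero]
  · rw [Pi.single_eq_of_ne h, zero_mul]

variable (m F)

/-- The orthogonal group. -/
def OGrp : Subgroup (GL (Fin (dim m)) F) := Cfsg.isometryGroup F (qPlus (m := m))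

/-- The twist by the antidiagonal form. -/
noncomputable def θ : GL (Fin (dim m)) F →* GL (Fin (dim m)) F := theta (RingHom.id F)

variable {m F}

theorem θ_eq_self_iff (g : GL (Fin (dim m)) F) :
    θ m F g = g ↔ ∀ x y : Fin (dim m) → F,
      ∑ j, ((g : Matrix (Fin (dim m)) (Fin (dim m)) F) *ᵥ x) j * ((g : Matrix (Fin (dim m)) (Fin (dim m)) F) *ᵥ y) j.rev = ∑ j, x j * y j.rev := by
  set P : Matrix (Fin (dim m)) (Fin (dim m)) F := ((permGL F Fin.revPerm : GL (Fin (dim m)) F) : Matrix (Fin (dim m)) (Fin (dim m)) F)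
  have hP : ∀ x y : Fin (dim m) → F, ∑ j, x j * y j.rev = x ⬝ᵥ (P *ᵥ y) := by
    intro x y
    refine Finset.sum_congr rfl fun j _ => ?_
    congr 1
    rw [Matrix.mulVec, dotProduct, Finset.sum_eq_single j.rev (fun b _ hb => by
      simp only [P, permGL_apply, Fin.revPerm_apply]
      rw [if_neg (fun e => hb (by rw [e, Fin.rev_rev])), zero_mul])
      (fun h => absurd (Finset.mem_univ _) h)]
    simp only [P, permGL_apply, Fin.revPerm_apply, Fin.rev_rev, if_true, one_mul]
  have hdot : ∀ x y, ((g : Matrix (Fin (dim m)) (Fin (dim m)) F) *ᵥ x) ⬝ᵥ (P *ᵥ ((g : Matrix (Fin (dim m)) (Fin (dim m)) F) *ᵥ y)) =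
      x ⬝ᵥ (((g : Matrix (Fin (dim m)) (Fin (dim m)) F)ᵀ * P * (g : Matrix (Fin (dim m)) (Fin (dim m)) F)) *ᵥ y) := fun x y => by
    rw [← Matrix.mulVec_mulVec, ← Matrix.mulVec_mulVec, dotProduct_mulVec x, Matrix.vecMul_transpose]
  simp only [hP, hdot]
  have hθ : θ m F g = permGL F Fin.revPerm * H52.Twist.tw (RingHom.id F) g * (permGL F Fin.revPerm)⁻¹ := by
    rw [θ, theta, MonoidHom.comp_apply, MulEquiv.coe_toMonoidHom, MulAut.conj_apply, inv_inv, perm_rev_inv]
  have ht : ((H52.Twist.tw (RingHom.id F) g)⁻¹ : GL (Fin (dim m)) F).val = (g : Matrix (Fin (dim m)) (Fin (dim m)) F)ᵀ := by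
    show ((g : Matrix (Fin (dim m)) (Fin (dim m)) F).map (RingHom.id F))ᵀ = _
    ext i j
    rfl
  have hiff : θ m F g = g ↔ (g : Matrix (Fin (dim m)) (Fin (dim m)) F)ᵀ * P * (g : Matrix (Fin (dim m)) (Fin (dim m)) F) = P := by
    rw [← ht, ← Units.val_mul, ← Units.val_mul, Units.val_inj, hθ]
    set K := permGL F (Fin.revPerm : Equiv.Perm (Fin (dim m)))
    set T := H52.Twist.tw (RingHom.id F) g
    have hK : K * K = 1 := by
      rw [← permGL_mul, show (Fin.revPerm : Equiv.Perm (Fin (dim m))) * Fin.revPerm = 1 from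
        Equiv.ext fun i => by simp, permGL_one]
    rw [show K⁻¹ = K from inv_eq_of_mul_eq_one_right hK]
    constructor
    · intro h
      rw [mul_assoc T⁻¹, inv_mul_eq_iff_eq_mul]
      calc K * g = K * (K * T * K) := by rw [h]
        _ = T * K := by rw [← mul_assoc, ← mul_assoc, hK, one_mul]
    · intro h
      rw [mul_assoc T⁻¹, inv_mul_eq_iff_eq_mul] at h
      rw [mul_assoc, ← h, ← mul_assoc, hK, one_mul]
  rw [hiff]
  constructor
  · intro h x y
    rw [h]
  · intro h
    ext a b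
    simpa [single_dotProduct, Matrix.mulVec_single] using h (Pi.single a 1) (Pi.single b 1)

/-- The orthogonal group consists of the fixed elements with isotropic columns. -/
theorem mem_OGrp_iff {g : GL (Fin (dim m)) F} :
    g ∈ OGrp m F ↔ θ m F g = g ∧ ∀ j, qPlus ((g : Matrix (Fin (dim m)) (Fin (dim m)) F) *ᵥ Pi.single j 1) = 0 := by
  constructor
  · intro h
    have hQ : ∀ x, qPlus ((g : Matrix (Fin (dim m)) (Fin (dim m)) F) *ᵥ x) = qPlus x := fun x => h x x
    refine ⟨(θ_eq_self_iff g).2 fun x y => ?_, fun j => by rw [hQ, qPlus_single]⟩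
    have e := hQ (x + y)
    rw [Matrix.mulVec_add, polar_sum, polar_sum, hQ, hQ] at e
    exact add_left_cancel e
  · rintro ⟨hθ, hcol⟩ x _
    show qPlus ((g : Matrix (Fin (dim m)) (Fin (dim m)) F) *ᵥ x) = qPlus x
    rw [θ_eq_self_iff] at hθ
    have hsum : ∀ s : Finset (Fin (dim m)),
        qPlus ((g : Matrix (Fin (dim m)) (Fin (dim m)) F) *ᵥ (∑ j ∈ s, Pi.single j (x j))) = qPlus (∑ j ∈ s, Pi.single j (x j)) := by
      intro s
      induction s using Finset.induction_on with
      | empty => simp [qPlus_zero]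
      | insert a s ha ih =>
        rw [Finset.sum_insert ha, Matrix.mulVec_add, polar_sum, polar_sum, ih, hθ, qPlus_single]
        congr 2
        rw [show (Pi.single a (x a) : Fin (dim m) → F) = x a • Pi.single a 1 by
          rw [← Pi.single_smul, smul_eq_mul, mul_one], Matrix.mulVec_smul, qPlus_smul, hcol, mul_zero]
    have := hsum Finset.univ
    rwa [Finset.univ_sum_single] at this

theorem OGrp_fixed {g : GL (Fin (dim m)) F} (hg : g ∈ OGrp m F) : θ m F g = g :=
  (mem_OGrp_iff.1 hg).1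

theorem col_apply (g : GL (Fin (dim m)) F) (j r : Fin (dim m)) :
    ((g : Matrix (Fin (dim m)) (Fin (dim m)) F) *ᵥ Pi.single j 1) r = (g : Matrix (Fin (dim m)) (Fin (dim m)) F) r j := by
  rw [Matrix.mulVec_single_one, Matrix.col_apply]

theorem qPlus_mul {g : GL (Fin (dim m)) F} (hg : g ∈ OGrp m F) (k : GL (Fin (dim m)) F) (x : Fin (dim m) → F) :
    qPlus (((g * k : GL (Fin (dim m)) F) : Matrix (Fin (dim m)) (Fin (dim m)) F) *ᵥ x) = qPlus ((k : Matrix (Fin (dim m)) (Fin (dim m)) F) *ᵥ x) := by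
  rw [Units.val_mul, ← Matrix.mulVec_mulVec]
  exact hg _ ((k : Matrix (Fin (dim m)) (Fin (dim m)) F) *ᵥ x)

/-- The columns in the first half of an upper triangular matrix are isotropic. -/
theorem qPlus_upper_col {g : GL (Fin (dim m)) F} (hg : g ∈ upperTriangularGL (dim m) F) {j : Fin (dim m)}
    (hj : j < j.rev) : qPlus ((g : Matrix (Fin (dim m)) (Fin (dim m)) F) *ᵥ Pi.single j 1) = 0 := by
  refine qPlus_of_disjoint fun r => ?_
  rw [col_apply, col_apply]
  rcases lt_or_ge j r with h | h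
  · rw [mem_upper.1 hg r j h, zero_mul]
  · rw [mem_upper.1 hg r.rev j (lt_of_lt_of_le hj (Fin.rev_le_rev.2 h)), mul_zero]

theorem permGL_mem_OGrp {w : Equiv.Perm (Fin (dim m))} (hw : revConj w = w) : permGL F w ∈ OGrp m F := by
  refine mem_OGrp_iff.2 ⟨by rw [θ, theta_perm, hw], fun j => qPlus_of_disjoint fun r => ?_⟩
  rw [col_apply, col_apply, permGL_apply, permGL_apply]
  split_ifs with h1 h2
  · exact absurd (h2.trans h1.symm) (rev_ne r)
  all_goals simp

theorem torus_fixed_mem_OGrp {h : GL (Fin (dim m)) F} (hh : h ∈ torus (dim m) F) (hθ : θ m F h = h) :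
    h ∈ OGrp m F := by
  obtain ⟨d, rfl⟩ := exists_of_mem_torus hh
  refine mem_OGrp_iff.2 ⟨hθ, fun j => qPlus_of_disjoint fun r => ?_⟩
  rw [col_apply, col_apply, diagGL_coe]
  by_cases h : r = j
  · subst h
    rw [Matrix.diagonal_apply_ne _ (rev_ne r), mul_zero]
  · rw [Matrix.diagonal_apply_ne _ h, zero_mul]

theorem mul_perm_col (g : GL (Fin (dim m)) F) (w : Equiv.Perm (Fin (dim m))) (j : Fin (dim m)) :
    ((g * permGL F w : GL (Fin (dim m)) F) : Matrix (Fin (dim m)) (Fin (dim m)) F) *ᵥ Pi.single j 1 =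
      (g : Matrix (Fin (dim m)) (Fin (dim m)) F) *ᵥ Pi.single (w j) 1 := by
  funext r
  rw [col_apply, col_apply, Units.val_mul, Matrix.mul_apply]
  simp [permGL_apply]

variable [Finite F]

variable (m F) in
/-- The ambient Tits system. -/
noncomputable def gl : Tits.Ambient (GL (Fin (dim m)) F) (Equiv.Perm (Fin (dim m))) := glAmb (fun _ => 1) rfl

theorem gl_n (w : Equiv.Perm (Fin (dim m))) : (gl m F).n w = permGL F w := by
  show diagGL (1 : Fin (dim m) → Fˣ) * permGL F w = _
  rw [diagGL_one, one_mul]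

theorem gl_U : (gl m F).U = unitriGL (dim m) F := rfl
theorem gl_H : (gl m F).H = torus (dim m) F := rfl
theorem gl_Uw (w : Equiv.Perm (Fin (dim m))) : (gl m F).Uw w = outPart w⁻¹ := rfl

variable (m F) in
/-- Compatibility of the twist. -/
noncomputable def glCompat : (gl m F).toNormalForm.Compat (θ m F) where
  τ := revConj
  c _ := 1
  c_mem _ := one_mem _
  c_fixed _ _ := rfl
  map_U u hu := theta_unitri _ hu
  map_H h hh := by
    obtain ⟨d, rfl⟩ := exists_of_mem_torus hh
    rw [θ, TwData.theta_diag]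
    exact diag_mem_torus _
  map_Uw w v hv := by
    rw [gl_Uw] at hv ⊢
    rw [← TwData.revConj_inv]
    exact theta_outPart _ hv
  map_n w := by rw [gl_n, gl_n, one_mul, θ, theta_perm]

/-- Splitting of the normal form of an orthogonal element. -/
theorem split_nf {u h v : GL (Fin (dim m)) F} {w : Equiv.Perm (Fin (dim m))} (hu : u ∈ unitriGL (dim m) F)
    (hh : h ∈ torus (dim m) F) (hv : v ∈ outPart w⁻¹) (hg : u * h * permGL F w * v ∈ OGrp m F) :
    revConj w = w ∧ u ∈ OGrp m F ∧ h ∈ OGrp m F ∧ v ∈ OGrp m F := by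
  have hfix := OGrp_fixed hg
  rw [← gl_n] at hfix
  obtain ⟨hw, hfu, hfh, hfv⟩ := ((glCompat m F).fixed_iff hu hh hv).1 hfix
  have hw' : revConj w = w := hw
  have hhO := torus_fixed_mem_OGrp hh hfh
  have hnO := permGL_mem_OGrp (F := F) hw'
  have hvi : v⁻¹ ∈ OGrp m F := by
    refine mem_OGrp_iff.2 ⟨by rw [map_inv, hfv], fun j => ?_⟩
    rcases lt_trichotomy (w j) (w j).rev with hj | hj | hj
    · have e := qPlus_mul hg v⁻¹ (Pi.single j 1)
      rw [mul_inv_cancel_right, mul_perm_col, qPlus_upper_col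
        (mul_mem (unitri_le_upper hu) (torus_le_upper hh)) hj] at e
      exact e.symm
    · exact absurd hj.symm (rev_ne _)
    · refine qPlus_of_disjoint fun r => ?_
      have hlow := mem_lowerGL.1 (mem_outPart.1 (inv_mem hv)).2
      have hz : ∀ a, w a < w j → ((v⁻¹ : GL (Fin (dim m)) F) : Matrix (Fin (dim m)) (Fin (dim m)) F) a j = 0 := fun a ha => by
        have := hlow (w a) (w j) ha
        rw [perm_conj_apply] at this
        simpa using this
      rw [col_apply, col_apply]
      by_cases h1 : w r < w j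
      · rw [hz r h1, zero_mul]
      · have h2 : w r.rev < w j := by
          rw [TwData.rev_comm hw']
          exact lt_of_le_of_lt (Fin.rev_le_rev.2 (not_lt.1 h1)) hj
        rw [hz _ h2, mul_zero]
  have hvO : v ∈ OGrp m F := by simpa using inv_mem hvi
  refine ⟨hw', ?_, hhO, hvO⟩
  have := mul_mem (mul_mem (mul_mem hg (inv_mem hvO)) (inv_mem hnO)) (inv_mem hhO)
  simpa [mul_assoc] using this

/-- An orthogonal element in a cell has a normal form with orthogonal parts. -/
theorem normalise {g : GL (Fin (dim m)) F} {x : Equiv.Perm (Fin (dim m))} (hg : g ∈ OGrp m F)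
    (hc : Tits.InCell (gl m F).U (gl m F).H ((gl m F).n x) g) :
    revConj x = x ∧ ∃ u ∈ unitriGL (dim m) F ⊓ OGrp m F, ∃ h ∈ torus (dim m) F ⊓ OGrp m F,
      ∃ v ∈ outPart x⁻¹ ⊓ OGrp m F, g = u * h * permGL F x * v := by
  obtain ⟨u, hu, h, hh, w, v, hv, rfl⟩ := (gl m F).exists_eq g
  obtain rfl : w = x := (gl m F).index_eq hu hh hv hc
  rw [gl_n] at hg ⊢
  obtain ⟨h1, h2, h3, h4⟩ := split_nf hu hh hv hg
  exact ⟨h1, u, ⟨hu, h2⟩, h, ⟨hh, h3⟩, v, ⟨hv, h4⟩, rfl⟩

/-- The entry of an orthogonal unitriangular matrix at the middle root vanishes. -/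
theorem mid_entry {u : GL (Fin (dim m)) F} (hu : u ∈ unitriGL (dim m) F) (hO : u ∈ OGrp m F)
    {a : Fin (dim m)} (ha : (a : ℕ) = m) : (u : Matrix (Fin (dim m)) (Fin (dim m)) F) a a.rev = 0 := by
  have hr : ((a.rev : Fin (dim m)) : ℕ) = m + 1 := by
    rw [Fin.val_rev]
    simp only [dim]
    omega
  have h := (mem_OGrp_iff.1 hO).2 a.rev
  have hcast : Fin.castAdd (m + 1) (Fin.last m) = a := Fin.ext (by simp [ha])
  rw [qPlus, Finset.sum_eq_single (Fin.last m) (fun r _ hr' => ?_) (fun h => absurd (Finset.mem_univ _) h),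
    hcast, col_apply, col_apply, (mem_unitri.1 hu).2, mul_one] at h
  · exact h
  · have h1 : (r : ℕ) ≠ m := fun e => hr' (Fin.ext (by simp [e]))
    have h2 := r.isLt
    rw [col_apply, col_apply, mem_upper.1 (mem_unitri.1 hu).1 (Fin.castAdd (m + 1) r).rev a.rev (by
      rw [Fin.lt_def, hr, Fin.val_rev, Fin.val_castAdd]
      simp only [dim]
      omega), mul_zero]

end Cfsg.Agent.H83.Classical.OPlus
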