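import Cfsg.Agent.H83.Classical.OPlusGroup
import Cfsg.Agent.S0178
import Cfsg.Agent.CharBasic.Kernel

/-!
The Steinberg character of `POmega⁺₄(2)`: this group has order dividing 18 and two involutions.
-/

set_option autoImplicit false
set_option linter.unusedFintypeInType false
set_option linter.unusedSectionVars false
set_option linter.deprecated false
set_option linter.style.haveILetI false

namespace Cfsg.Agent.H83.Classical.OPlus

open Cfsg Matrix Cfsg.Agent.Linear Cfsg.Agent.H54 Cfsg.Agent.H52.TwistedBruhat Cfsg.Agent.Orthogonal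

theorem four_dvd_of_involutions {G : Type*} [Group G] [Finite G] {a b : G} (ha : orderOf a = 2)
    (hb : orderOf b = 2) (hab : a ≠ b) (hc : a * b = b * a) : 4 ∣ Nat.card G := by
  have e1 : a * a = 1 := by rw [← pow_two, ← ha, pow_orderOf_eq_one]
  have e2 : b * b = 1 := by rw [← pow_two, ← hb, pow_orderOf_eq_one]
  have e3 : a * (a * b) = b := by rw [← mul_assoc, e1, one_mul]
  have e4 : b * (a * b) = a := by rw [hc, ← mul_assoc, e2, one_mul]
  have e5 : a * b * a = b := by rw [hc, mul_assoc, e1, mul_one]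
  have e6 : a * b * b = a := by rw [mul_assoc, e2, mul_one]
  have e7 : a * b * (a * b) = 1 := by rw [mul_assoc, e4, e1]
  have i1 : a⁻¹ = a := inv_eq_of_mul_eq_one_right e1
  have i2 : b⁻¹ = b := inv_eq_of_mul_eq_one_right e2
  have i3 : (a * b)⁻¹ = a * b := inv_eq_of_mul_eq_one_right e7
  let K : Subgroup G :=
    { carrier := {x | x = 1 ∨ x = a ∨ x = b ∨ x = a * b}
      mul_mem' := by
        intro x y hx hy
        simp only [Set.mem_setOf_eq] at hx hy ⊢
        rcases hx with h | h | h | h <;> rcases hy with h' | h' | h' | h' <;> rw [h, h'] <;>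
          simp [e1, e2, e3, e4, e5, e6, e7, hc.symm]
      one_mem' := Or.inl rfl
      inv_mem' := by
        intro x hx
        simp only [Set.mem_setOf_eq] at hx ⊢
        rcases hx with h | h | h | h <;> rw [h] <;> simp [i1, i2, i3] }
  have ha1 : a ≠ 1 := fun h => by simp [h] at ha
  have hb1 : b ≠ 1 := fun h => by simp [h] at hb
  have hne : a * b ≠ 1 := fun h => hab (by rw [eq_inv_of_mul_eq_one_left h, i2])
  have hK : Nat.card K = 4 := by
    have hs : (K : Set G) = {1, a, b, a * b} := by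
      ext x
      show (x = 1 ∨ x = a ∨ x = b ∨ x = a * b) ↔ _
      simp
    show Nat.card ↥(K : Set G) = 4
    rw [hs, Nat.card_coe_set_eq]
    rw [Set.ncard_insert_of_notMem, Set.ncard_insert_of_notMem, Set.ncard_insert_of_notMem, Set.ncard_singleton]
    · intro h
      exact ha1 (mul_eq_right.1 (Set.mem_singleton_iff.1 h).symm)
    · rintro (h | h)
      · exact hab h
      · exact hb1 (mul_eq_left.1 (Set.mem_singleton_iff.1 h).symm)
    · rintro (h | h | h)
      · exact ha1 h.symm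
      · exact hb1 h.symm
      · exact hne (Set.mem_singleton_iff.1 h).symm
  exact hK ▸ Subgroup.card_subgroup_dvd_card K

theorem steinberg_of_eighteen {Q : Type*} [Group Q] [Finite Q] (hdvd : Nat.card Q ∣ 18) {a b : Q}
    (ha : orderOf a = 2) (hb : orderOf b = 2) (hab : a ≠ b) :
    ∃ χ : Q → ℂ, IsIrrCharacter Q χ ∧ ∀ P : Sylow 2 Q, χ 1 = Nat.card P ∧ ∀ x : Q, x ∈ P → x ≠ 1 → χ x = 0 := by
  classical
  have h2 : 2 ∣ Nat.card Q := ha ▸ orderOf_dvd_natCard a
  have h4 : ¬ 4 ∣ Nat.card Q := fun h => absurd (h.trans hdvd) (by decide)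
  obtain ⟨k, hk⟩ := h2
  have hkodd : ¬ 2 ∣ k := fun h => h4 (hk ▸ Nat.mul_dvd_mul_left 2 h)
  have hnc : ¬ ∀ x y : Q, x * y = y * x := by
    intro hc
    exact h4 (four_dvd_of_involutions ha hb hab (hc a b))
  obtain ⟨χ, hχ⟩ : ∃ χ : IrrCharacter Q, (χ : Q → ℂ) 1 ≠ 1 := by
    by_contra h
    push Not at h
    exact hnc (CharBasic.commutative_iff_forall_linear.2 h)
  obtain ⟨m, ρ, hρ, hρe⟩ := χ.2
  haveI : Fintype Q := Fintype.ofFinite _
  haveI := Fact.mk Nat.prime_three
  let S : Sylow 3 Q := default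
  have hk9 : k ∣ 9 := (Nat.mul_dvd_mul_iff_left two_pos).1 (by rw [← hk]; exact hdvd)
  obtain ⟨c, hc2, hck⟩ := (Nat.dvd_prime_pow Nat.prime_three).1 (show k ∣ 3 ^ 2 from hk9)
  have hS : Nat.card S = 3 ^ c := by
    rw [S.card_eq_multiplicity, hk, hck, Nat.factorization_mul (by norm_num) (by positivity), Finsupp.add_apply,
      Nat.factorization_eq_zero_of_not_dvd (show ¬ 3 ∣ 2 by norm_num), Nat.Prime.factorization_pow Nat.prime_three,
      Finsupp.single_eq_same, zero_add]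
  have hSidx : (S : Subgroup Q).index = 2 := by
    have h := (S : Subgroup Q).card_mul_index
    rw [show Nat.card (S : Subgroup Q) = 3 ^ c from hS, hk, hck, mul_comm 2] at h
    exact Nat.eq_of_mul_eq_mul_left (by positivity) h
  have hScomm : ∀ x ∈ (S : Subgroup Q), ∀ y ∈ (S : Subgroup Q), x * y = y * x := by
    intro x hx y hy
    rcases Nat.lt_or_ge c 2 with hlt | hge
    · have hcyc : IsCyclic ↥(S : Subgroup Q) := by
        interval_cases c
        · haveI : Subsingleton ↥(S : Subgroup Q) := (Nat.card_eq_one_iff_unique.1 (by simpa using hS)).1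
          infer_instance
        · exact isCyclic_of_prime_card (p := 3) (by simpa using hS)
      exact congrArg Subtype.val ((IsCyclic.commGroup (α := ↥(S : Subgroup Q))).mul_comm ⟨x, hx⟩ ⟨y, hy⟩ :)
    · obtain rfl : c = 2 := le_antisymm hc2 hge
      exact congrArg Subtype.val (IsPGroup.commutative_of_card_eq_prime_sq hS ⟨x, hx⟩ ⟨y, hy⟩ :)
  have hle : m ≤ 2 := by
    have h := Cfsg.Agent.S0178.result ρ (S : Subgroup Q) hScomm
    rwa [Module.finrank_fin_fun, hSidx] at h
  have h1 : (χ : Q → ℂ) 1 = (m : ℂ) := by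
    rw [← hρe, Representation.char_one, Module.finrank_fin_fun]
  have hpos := H26.finrank_pos_of_isIrreducible ρ
  rw [Module.finrank_fin_fun] at hpos
  obtain rfl : m = 2 := by
    rcases (show m = 1 ∨ m = 2 by omega) with h | h
    · exact absurd (by rw [h1, h, Nat.cast_one]) hχ
    · exact h
  have hfac : (Nat.card Q).factorization 2 = 1 := by
    rw [hk, Nat.factorization_mul (by norm_num) (fun h => hkodd (by rw [h]; exact dvd_zero 2)), Finsupp.add_apply,
      Nat.factorization_eq_zero_of_not_dvd hkodd, Nat.Prime.factorization_self Nat.prime_two]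
  haveI := Fact.mk Nat.prime_two
  refine ⟨χ, χ.2, fun P => ⟨by rw [h1, P.card_eq_multiplicity, hfac, pow_one], fun x hx hx1 => ?_⟩⟩
  rw [← hρe]
  refine H26.defect_zero_vanish ρ (p := 2) (n := 1) Nat.prime_two (by rw [pow_one]; exact ⟨k, hk⟩) h4
    (by rw [Module.finrank_fin_fun, pow_one]) ?_
  obtain ⟨j, hj⟩ := IsPGroup.iff_orderOf.mp P.2 ⟨x, hx⟩
  rw [Subgroup.orderOf_mk] at hj
  rw [hj]
  refine dvd_pow_self 2 fun e => hx1 ?_
  rw [e, pow_zero] at hj
  exact orderOf_eq_one_iff.mp hj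

theorem steinberg_of_eighteen_center {G : Type*} [Group G] [Finite G] (hdvd : Nat.card G ∣ 18) {a b : G}
    (ha : orderOf a = 2) (hb : orderOf b = 2) (hab : a ≠ b) :
    ∃ χ : G ⧸ Subgroup.center G → ℂ, IsIrrCharacter (G ⧸ Subgroup.center G) χ ∧
      ∀ P : Sylow 2 (G ⧸ Subgroup.center G), χ 1 = Nat.card P ∧
        ∀ x : G ⧸ Subgroup.center G, x ∈ P → x ≠ 1 → χ x = 0 := by
  have h4 : ¬ 4 ∣ Nat.card G := fun h => absurd (h.trans hdvd) (by decide)
  set Z := Subgroup.center G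
  have key : ∀ c ∈ Z, c * c = 1 → ∀ x : G, orderOf x = 2 → c = 1 ∨ x = c := by
    intro c hc hcc x hx
    by_contra hne
    push Not at hne
    have hco : orderOf c = 2 := orderOf_eq_prime (by rw [pow_two, hcc]) hne.1
    exact h4 (four_dvd_of_involutions hx hco hne.2 (Subgroup.mem_center_iff.1 hc x))
  have hno : ∀ x : G, orderOf x = 2 → x ∉ Z := fun x hx hxZ => by
    have hxx : x * x = 1 := by rw [← pow_two, ← hx, pow_orderOf_eq_one]
    rcases key x hxZ hxx a ha with h | h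
    · simp [h] at hx
    rcases key x hxZ hxx b hb with h' | h'
    · simp [h'] at hx
    exact hab (h.trans h'.symm)
  have hmk : ∀ x : G, orderOf x = 2 → orderOf (x : G ⧸ Z) = 2 := fun x hx => by
    refine orderOf_eq_prime ?_ fun h => hno x hx ((QuotientGroup.eq_one_iff x).1 h)
    rw [← QuotientGroup.mk_pow, ← hx, pow_orderOf_eq_one, QuotientGroup.mk_one]
  refine steinberg_of_eighteen ((Subgroup.card_quotient_dvd_card Z).trans hdvd) (hmk a ha) (hmk b hb) fun h => hab ?_
  rw [QuotientGroup.eq] at h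
  set c := a⁻¹ * b with hc
  have haa : a * a = 1 := by rw [← pow_two, ← ha, pow_orderOf_eq_one]
  have hbb : b * b = 1 := by rw [← pow_two, ← hb, pow_orderOf_eq_one]
  have hcc : c * c = 1 := by
    have e : a * c = b := by rw [hc, mul_inv_cancel_left]
    have e' : c * a = a * c := (Subgroup.mem_center_iff.1 h a).symm
    calc c * c = (a * a) * (c * c) := by rw [haa, one_mul]
      _ = (a * c) * (a * c) := by rw [mul_assoc a c, ← mul_assoc c a c, e']; group
      _ = 1 := by rw [e, hbb]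
  rcases key c h hcc a ha with h1 | h1
  · exact inv_mul_eq_one.1 h1
  · exact absurd (h1 ▸ h) (hno a ha)

variable {F : Type*} [Field F] [Fintype F]

theorem exists_ringEquiv (hF : Fintype.card F = 2) : Nonempty (ZMod 2 ≃+* F) := by
  haveI := Fact.mk Nat.prime_two
  exact ⟨ZMod.ringEquivOfPrime F Nat.prime_two hF⟩

theorem sphereSign_of_free {K V : Type*} [Field K] [Finite K] [AddCommGroup V] [Module K V] [FiniteDimensional K V]
    {Q : QuadraticForm K V} (g : O Q) (hg : ∀ v : V, (g : V ≃ₗ[K] V) ((g : V ≃ₗ[K] V) v) = v)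
    (hf : ∀ v : V, Q v = 1 → (g : V ≃ₗ[K] V) v ≠ v) :
    sphereSign Q g = (-1) ^ (Nat.card {v : V // Q v = 1} / 2) := by
  classical
  haveI : Finite V := Module.finite_of_finite K
  letI : Fintype {v : V // Q v = 1} := Fintype.ofFinite _
  set σ : Equiv.Perm {v : V // Q v = 1} := (g : V ≃ₗ[K] V).toEquiv.subtypeEquiv (p := fun v => Q v = 1)
    (q := fun v => Q v = 1) fun v => by rw [LinearEquiv.coe_toEquiv, O.map_app]
  have h1 : sphereSign Q g = Equiv.Perm.sign σ := by
    simp only [sphereSign, MonoidHom.comp_apply, σ]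
    rfl
  have hσ : σ ^ 2 = 1 := by
    ext v
    rw [pow_two]
    exact hg v
  haveI : IsEmpty (Function.fixedPoints σ) := ⟨fun ⟨v, hv⟩ => hf v.1 v.2 (congrArg Subtype.val hv)⟩
  rw [h1, Equiv.Perm.sign_of_pow_two_eq_one hσ, Fintype.card_eq_zero (α := Function.fixedPoints σ),
    Nat.sub_zero, ← Nat.card_eq_fintype_card]

theorem card_sphere (hF : Fintype.card F = 2) :
    Nat.card {v : Fin 2 ⊕ Fin 2 → F // formPlus F 2 v = 1} = 6 := by
  obtain ⟨e⟩ := exists_ringEquiv hF
  rw [← Nat.card_congr (Equiv.subtypeEquiv (p := fun v : Fin 2 ⊕ Fin 2 → ZMod 2 => Cfsg.quadFormPlus 2 (ZMod 2) v = 1)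
    (q := fun v => formPlus F 2 v = 1) (Equiv.arrowCongr (Equiv.refl _) e.toEquiv) fun v => by
      show _ ↔ Cfsg.quadFormPlus 2 F (fun i => e (v i)) = 1
      rw [← map_one e, show Cfsg.quadFormPlus 2 F (fun i => e (v i)) = e (Cfsg.quadFormPlus 2 (ZMod 2) v) by
        simp [Cfsg.quadFormPlus], e.injective.eq_iff])]
  rw [Nat.card_eq_fintype_card]
  decide +kernel

/-- The double root element over `ZMod 2`. -/
def A₂ : Matrix (Fin (dim 1)) (Fin (dim 1)) (ZMod 2) :=
  (!![1, 1, 0, 0; 0, 1, 0, 0; 0, 0, 1, 1; 0, 0, 0, 1] : Matrix (Fin 4) (Fin 4) (ZMod 2))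

/-- The middle transposition over `ZMod 2`. -/
def P₂ : Matrix (Fin (dim 1)) (Fin (dim 1)) (ZMod 2) :=
  (!![1, 0, 0, 0; 0, 0, 1, 0; 0, 1, 0, 0; 0, 0, 0, 1] : Matrix (Fin 4) (Fin 4) (ZMod 2))

/-- The pair of outer transpositions over `ZMod 2`. -/
def D₂ : Matrix (Fin (dim 1)) (Fin (dim 1)) (ZMod 2) :=
  (!![0, 1, 0, 0; 1, 0, 0, 0; 0, 0, 0, 1; 0, 0, 1, 0] : Matrix (Fin 4) (Fin 4) (ZMod 2))

theorem A₂_sq : A₂ * A₂ = 1 := by decide +kernel

theorem Z₂_sq : P₂ * A₂ * P₂ * A₂ * (P₂ * A₂ * P₂ * A₂) = 1 := by decide +kernel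

theorem Z₂_ne_one : P₂ * A₂ * P₂ * A₂ ≠ 1 := by decide +kernel

theorem Z₂_not_comm : P₂ * A₂ * P₂ * A₂ * D₂ ≠ D₂ * (P₂ * A₂ * P₂ * A₂) := by decide +kernel

set_option maxHeartbeats 1000000 in
theorem steinberg_four (hF : Fintype.card F = 2) (p : ℕ) [hp : Fact p.Prime] [CharP F p] :
    ∃ χ : Cfsg.POmega F (Cfsg.quadFormPlus 2 F) → ℂ,
      Cfsg.IsIrrCharacter (Cfsg.POmega F (Cfsg.quadFormPlus 2 F)) χ ∧
      ∀ P : Sylow p (Cfsg.POmega F (Cfsg.quadFormPlus 2 F)), χ 1 = Nat.card P ∧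
        ∀ x : Cfsg.POmega F (Cfsg.quadFormPlus 2 F), x ∈ P → x ≠ 1 → χ x = 0 := by
  classical
  obtain ⟨f, -, hf⟩ := FiniteField.card F p
  obtain rfl : p = 2 := (Nat.prime_dvd_prime_iff_eq hp.out Nat.prime_two).1 (hF ▸ hf ▸ dvd_pow_self p f.ne_zero)
  have h2 : (2 : F) = 0 := by exact_mod_cast CharP.cast_eq_zero F 2
  have hneg : ∀ c : F, -c = c := fun c => by linear_combination (-c) * h2
  set O4 := Cfsg.isometryGroup F (Cfsg.quadFormPlus (1 + 1) F)
  set Ω := Cfsg.Omega F (Cfsg.quadFormPlus (1 + 1) F) with hΩ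
  have hcardO : Nat.card ↥O4 = 72 := by
    show Nat.card ↥(Cfsg.isometryGroup F (⇑(formPlus F 2))) = 72
    rw [Nat.card_congr (toO (formPlus F 2)).toEquiv,
      card_O_plus 1 _ (formPlus_nondeg _ _) (formPlus_frame _ _) (formPlus_aniso _ _) (finrank_formPlus _ _),
      Nat.card_eq_fintype_card, hF]
    decide +kernel
  have h01 : (⟨0, by norm_num⟩ : Fin (dim 1)) < ⟨1, by norm_num⟩ := by decide
  obtain ⟨x, hx⟩ : rootPair (F := F) h01.ne ∈ (isoO 1 F).range := by
    rw [range_isoO]; exact rootPair_mem_OGrp h01 (by decide)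
  obtain ⟨t, ht⟩ : permGL F (mid 1) ∈ (isoO 1 F).range := by
    rw [range_isoO]; exact permGL_mem_OGrp mid_sym
  set d : Equiv.Perm (Fin (dim 1)) := Equiv.swap ⟨0, by norm_num⟩ ⟨1, by norm_num⟩ *
    Equiv.swap ⟨2, by norm_num⟩ ⟨3, by norm_num⟩ with hd
  obtain ⟨n, hn⟩ : permGL F d ∈ (isoO 1 F).range := by
    rw [range_isoO]
    exact permGL_mem_OGrp (by decide)
  set z := t * x * t⁻¹ * x⁻¹ with hz
  set z' := n * z * n⁻¹ with hz'
  have hzΩ : z ∈ Ω := by
    rw [hz, ← commutatorElement_def]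
    exact Subgroup.commutator_mem_commutator (Subgroup.mem_top t) (Subgroup.mem_top x)
  have hz'Ω : z' ∈ Ω := (inferInstance : Ω.Normal).conj_mem z hzΩ n
  set A : GL (Fin (dim 1)) F := rootPair h01.ne
  set P := permGL F (mid 1)
  obtain ⟨e⟩ := exists_ringEquiv hF
  let φ : Matrix (Fin (dim 1)) (Fin (dim 1)) (ZMod 2) →+* Matrix (Fin (dim 1)) (Fin (dim 1)) F :=
    RingHom.mapMatrix e.toRingHom
  have hAm : (A : Matrix (Fin (dim 1)) (Fin (dim 1)) F) = φ A₂ := by
    ext i j
    simp only [A, rootPair, mul_xGL_apply, xGL_apply, φ, RingHom.mapMatrix_apply, Matrix.map_apply]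
    simp only [dim] at i j ⊢
    fin_cases i <;> fin_cases j <;> simp [A₂, Fin.rev, hneg]
  have hPm : (P : Matrix (Fin (dim 1)) (Fin (dim 1)) F) = φ P₂ := by
    ext i j
    simp only [P, mid, midA, permGL_apply, φ, RingHom.mapMatrix_apply, Matrix.map_apply]
    simp only [dim] at i j ⊢
    fin_cases i <;> fin_cases j <;> simp [P₂, Fin.rev, Equiv.swap_apply_def]
  have hDm : (permGL F d : Matrix (Fin (dim 1)) (Fin (dim 1)) F) = φ D₂ := by
    ext i j
    simp only [hd, permGL_apply, φ, RingHom.mapMatrix_apply, Matrix.map_apply]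
    simp only [dim] at i j ⊢
    fin_cases i <;> fin_cases j <;> simp [D₂, Equiv.swap_apply_def]
  have hφ : Function.Injective φ := fun X Y h => by
    ext i j
    exact e.injective (congrFun (congrFun h i) j)
  have hA : A * A = 1 := by
    apply Units.ext
    rw [Units.val_mul, hAm, ← map_mul, A₂_sq, map_one, Units.val_one]
  have hAi : A⁻¹ = A := inv_eq_of_mul_eq_one_right hA
  have hPi : P⁻¹ = P := by rw [permGL_inv, mid_inv]
  have hzv : isoO 1 F z = P * A * P * A := by
    rw [hz, map_mul, map_mul, map_mul, map_inv, map_inv, ht, hx, hPi, hAi]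
  have hzm : ((P * A * P * A : GL (Fin (dim 1)) F) : Matrix (Fin (dim 1)) (Fin (dim 1)) F) = φ (P₂ * A₂ * P₂ * A₂) := by
    simp only [Units.val_mul, hAm, hPm, map_mul]
  have hzz : P * A * P * A * (P * A * P * A) = 1 := by
    apply Units.ext
    rw [Units.val_mul, hzm, ← map_mul, Z₂_sq, map_one, Units.val_one]
  have hz1 : z ≠ 1 := by
    intro e0
    have e' := congrArg (isoO 1 F) e0
    rw [hzv, map_one] at e'
    have e1 := congrArg Units.val e'
    rw [hzm, Units.val_one, ← map_one φ] at e1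
    exact Z₂_ne_one (hφ e1)
  have hzo : orderOf z = 2 := orderOf_eq_prime (isoO_injective (by
    rw [pow_two, map_mul, hzv, map_one]; exact hzz)) hz1
  have hz'o : orderOf z' = 2 := by
    rw [hz', show n * z * n⁻¹ = MulAut.conj n z from rfl, MulEquiv.orderOf_eq, hzo]
  have hne : z ≠ z' := by
    intro e
    have e' : z * n = n * z := by
      conv_lhs => rw [e, hz']
      rw [inv_mul_cancel_right]
    have e'' : isoO 1 F z * permGL F d = permGL F d * isoO 1 F z := by
      rw [← hn, ← map_mul, ← map_mul, e']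
    rw [hzv] at e''
    have e1 := congrArg Units.val e''
    simp only [Units.val_mul, hAm, hPm, hDm, ← map_mul] at e1
    exact Z₂_not_comm (hφ e1)
  -- the index of `Ω`
  let ε : ↥(Cfsg.isometryGroup F (Cfsg.quadFormPlus (1 + 1) F)) →* ℤˣ := (sphereSign (formPlus F 2)).comp (toO (formPlus F 2)).toMonoidHom
  have hεx : ε x = -1 := by
    have hxx : x * x = 1 := isoO_injective (by rw [map_mul, hx, map_one]; exact hA)
    have hinv : ∀ v, (toO (formPlus F 2) x : (Fin 2 ⊕ Fin 2 → F) ≃ₗ[F] (Fin 2 ⊕ Fin 2 → F))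
        ((toO (formPlus F 2) x : (Fin 2 ⊕ Fin 2 → F) ≃ₗ[F] (Fin 2 ⊕ Fin 2 → F)) v) = v := fun v => by
      show ((x : GL (Fin 2 ⊕ Fin 2) F) : Matrix (Fin 2 ⊕ Fin 2) (Fin 2 ⊕ Fin 2) F) *ᵥ
        (((x : GL (Fin 2 ⊕ Fin 2) F) : Matrix (Fin 2 ⊕ Fin 2) (Fin 2 ⊕ Fin 2) F) *ᵥ v) = v
      rw [Matrix.mulVec_mulVec, ← Units.val_mul, ← Subgroup.coe_mul, hxx,
        Subgroup.coe_one, Units.val_one, Matrix.one_mulVec]
    show sphereSign (formPlus F 2) (toO (formPlus F 2) x) = -1
    rw [sphereSign_of_free _ hinv fun v hv hfx => ?_, card_sphere hF]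
    · decide
    · have hv' : ((x : GL (Fin 2 ⊕ Fin 2) F) : Matrix (Fin 2 ⊕ Fin 2) (Fin 2 ⊕ Fin 2) F) *ᵥ v = v := hfx
      have key := reGL_mulVec (m := 1) (x : GL (Fin 2 ⊕ Fin 2) F) (v ∘ (Symp.idx (1 + 1)).symm)
      rw [Function.comp_assoc, Equiv.symm_comp_self, Function.comp_id, hv',
        show reGL 1 F (x : GL (Fin 2 ⊕ Fin 2) F) = A from hx] at key
      set w := v ∘ (Symp.idx (1 + 1)).symm with hw
      have hq : qPlus w = 1 := by
        rw [← qPlus_comp_idx, hw, Function.comp_assoc, Equiv.symm_comp_self, Function.comp_id]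
        exact hv
      have h' : ∀ i : Fin 4, ∑ j : Fin 4, e (A₂ i j) * w j = w i := fun i => by
        have := congrFun key i
        rw [hAm] at this
        exact this
      have k0 := h' 0
      have k2 := h' 2
      simp [A₂, Fin.sum_univ_four] at k0 k2
      unfold qPlus at hq
      simp [Fin.sum_univ_two, Fin.rev, k0, k2] at hq
  have hεΩ : Ω ≤ ε.ker := Abelianization.commutator_subset_ker ε
  set K := (GPlus 1 F).comap (isoO 1 F)
  have hΩK : Ω ≤ K := Subgroup.map_le_iff_le_comap.1 omega_le_GPlus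
  have hKidx : K.index = 2 := GPlus_comap_index
  have hεidx : ε.ker.index = 2 := by
    rw [Subgroup.index_eq_two_iff]
    refine ⟨x, fun b => ?_⟩
    rw [MonoidHom.mem_ker, MonoidHom.mem_ker, map_mul, hεx]
    rcases Int.units_eq_one_or (ε b) with h | h <;> simp [h]
  have hxK : x ∈ K := by
    show isoO 1 F x ∈ GPlus 1 F
    rw [hx]
    exact UPlus_le ⟨rootPair_unitri h01, rootPair_mem_OGrp h01 (by decide)⟩
  have hidx : 4 ∣ Ω.index := by
    have h1 : (ε.ker ⊓ K).index = 4 := by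
      have hle : (ε.ker ⊓ K).relIndex K = 2 := by
        refine (Subgroup.inf_relIndex_right (H := ε.ker) (K := K)).trans ?_
        have hdvd := Subgroup.relIndex_dvd_index_of_normal ε.ker K
        rw [hεidx] at hdvd
        rcases (Nat.dvd_prime Nat.prime_two).1 hdvd with h | h
        · have := Subgroup.relIndex_eq_one.1 h hxK
          rw [MonoidHom.mem_ker, hεx] at this
          exact absurd this (by decide)
        · exact h
      rw [← Subgroup.relIndex_mul_index (inf_le_right : ε.ker ⊓ K ≤ K), hle, hKidx]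
    exact h1 ▸ Subgroup.index_dvd_of_le (le_inf hεΩ hΩK)
  have hdvd : Nat.card ↥Ω ∣ 18 := by
    obtain ⟨j, hj⟩ := hidx
    have h := Subgroup.card_mul_index Ω
    rw [hcardO, hj] at h
    exact ⟨j, by linarith⟩
  exact steinberg_of_eighteen_center hdvd (a := (⟨z, hzΩ⟩ : ↥Ω)) (b := ⟨z', hz'Ω⟩)
    (by rw [Subgroup.orderOf_mk]; exact hzo) (by rw [Subgroup.orderOf_mk]; exact hz'o)
    (fun e => hne (congrArg Subtype.val e))

theorem trivial_group {Q : Type*} [Group Q] [Subsingleton Q] (p : ℕ) [Fact p.Prime] :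
    ∃ χ : Q → ℂ, IsIrrCharacter Q χ ∧ ∀ P : Sylow p Q, χ 1 = Nat.card P ∧ ∀ x : Q, x ∈ P → x ≠ 1 → χ x = 0 := by
  cases nonempty_fintype Q
  refine ⟨fun g => ((1 : Q →* ℂˣ) g : ℂ), CharInduce.isIrrCharacter_hom 1, fun P => ⟨?_, fun x _ hx => ?_⟩⟩
  · rw [Nat.card_unique]; simp
  · exact absurd (Subsingleton.elim x 1) hx

/-- The Steinberg character of `POmega` of plus type. -/
theorem steinberg (p : ℕ) [hp : Fact p.Prime] [CharP F p] (k : ℕ) :
    ∃ χ : Cfsg.POmega F (Cfsg.quadFormPlus k F) → ℂ,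
      Cfsg.IsIrrCharacter (Cfsg.POmega F (Cfsg.quadFormPlus k F)) χ ∧
      ∀ P : Sylow p (Cfsg.POmega F (Cfsg.quadFormPlus k F)), χ 1 = Nat.card P ∧
        ∀ x : Cfsg.POmega F (Cfsg.quadFormPlus k F), x ∈ P → x ≠ 1 → χ x = 0 := by
  rcases k with _ | m
  · haveI : Subsingleton (Fin 0 ⊕ Fin 0) := inferInstance
    haveI : Subsingleton (Cfsg.POmega F (Cfsg.quadFormPlus 0 F)) := by
      have : Subsingleton (GL (Fin 0 ⊕ Fin 0) F) :=
        ⟨fun a b => Units.ext (Matrix.ext fun i => (i.elim Fin.elim0 Fin.elim0))⟩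
      refine (QuotientGroup.mk'_surjective _).subsingleton
    exact trivial_group p
  · by_cases h : (2 : F) = 0 ∧ Nat.card F = 2 ∧ m = 1
    · obtain ⟨-, hF, rfl⟩ := h
      exact steinberg_four (by rwa [Nat.card_eq_fintype_card] at hF) p
    · refine steinberg_good p ?_
      rw [ne_eq, ne_eq, ne_eq]
      tauto

end Cfsg.Agent.H83.Classical.OPlus
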