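import Cfsg.Agent.H83.Classical.OPlusBasic

/-!
The split Tits system of type D on the group generated by the orthogonal unitriangular elements, the orthogonal
torus and the representatives of type D; it has index two in the orthogonal group.
-/

set_option autoImplicit false
set_option linter.unusedSectionVars false
set_option linter.unusedFintypeInType false
set_option linter.unusedVariables false

namespace Cfsg.Agent.H83.Classical.OPlus

open Matrix Equiv Cfsg.Agent.Linear Cfsg.Agent.H54 Cfsg.Agent.H52.TwistedBruhat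
open Cfsg.Agent.H37 NormalForm
open scoped MatrixGroups

variable {m : ℕ}

/-- The lower of the middle indices. -/
def midA (m : ℕ) : Fin (dim m) := ⟨m, by simp only [dim]; omega⟩

theorem midA_rev_val : ((midA m).rev : ℕ) = m + 1 := by
  rw [Fin.val_rev]
  simp only [midA, dim]
  omega

/-- The middle transposition. -/
def mid (m : ℕ) : Equiv.Perm (Fin (dim m)) := Equiv.swap (midA m) (midA m).rev

theorem mid_sym : mid m ∈ TwData.symPerm (dim m) := by
  show revConj (mid m) = mid m
  rw [mid, TwData.revConj_swap, Fin.rev_rev, Equiv.swap_comm]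

theorem mid_sq : mid m * mid m = 1 := Equiv.swap_mul_self _ _

theorem mid_inv : (mid m)⁻¹ = mid m := Equiv.swap_inv _ _

theorem mid_adj : mid m ∈ adj (dim m) := ⟨midA m, (midA m).rev, by rw [midA_rev_val]; rfl, rfl⟩

theorem mid_of_ne {x : Fin (dim m)} (h1 : (x : ℕ) ≠ m) (h2 : (x : ℕ) ≠ m + 1) : mid m x = x := by
  refine Equiv.swap_apply_of_ne_of_ne (fun e => h1 (by rw [e]; rfl)) fun e => h2 ?_
  rw [e, midA_rev_val]

theorem mid_of_eq {x : Fin (dim m)} (h : (x : ℕ) = m) : mid m x = (midA m).rev := by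
  rw [show x = midA m from Fin.ext h]
  exact Equiv.swap_apply_left _ _

theorem mid_of_eq' {x : Fin (dim m)} (h : (x : ℕ) = m + 1) : mid m x = midA m := by
  rw [show x = (midA m).rev from Fin.ext (by rw [h, midA_rev_val])]
  exact Equiv.swap_apply_right _ _

/-- The double transpositions. -/
def IsDouble (d : Equiv.Perm (Fin (dim m))) : Prop :=
  ∃ i j : Fin (dim m), (j : ℕ) = i + 1 ∧ j < j.rev ∧ d = Equiv.swap i j * Equiv.swap j.rev i.rev

theorem IsDouble.sgen {d : Equiv.Perm (Fin (dim m))} (hd : IsDouble d) : TwData.SGen d := by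
  obtain ⟨i, j, hij, h, e⟩ := hd
  exact ⟨i, j, hij, Or.inr (Or.inr ⟨h, e⟩)⟩

theorem IsDouble.sign {d : Equiv.Perm (Fin (dim m))} (hd : IsDouble d) : Equiv.Perm.sign d = 1 := by
  obtain ⟨i, j, hij, h, rfl⟩ := hd
  have hlt : i < j := Fin.lt_def.2 (by omega)
  rw [map_mul, Equiv.Perm.sign_swap hlt.ne, Equiv.Perm.sign_swap (Fin.rev_injective.ne hlt.ne')]
  rfl

/-- The generators of type D. -/
def SPlus (m : ℕ) : Set (Equiv.Perm (Fin (dim m))) :=
  {s | ∃ d, IsDouble d ∧ (s = d ∨ s = mid m * d * mid m)}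

theorem SPlus_sym {s : Equiv.Perm (Fin (dim m))} (hs : s ∈ SPlus m) : s ∈ TwData.symPerm (dim m) := by
  obtain ⟨d, hd, rfl | rfl⟩ := hs
  · exact hd.sgen.mem
  · exact mul_mem (mul_mem mid_sym hd.sgen.mem) mid_sym

theorem SPlus_sq {s : Equiv.Perm (Fin (dim m))} (hs : s ∈ SPlus m) : s * s = 1 := by
  obtain ⟨d, hd, rfl | rfl⟩ := hs
  · exact hd.sgen.sq
  · rw [show mid m * d * mid m * (mid m * d * mid m) = mid m * (d * (mid m * mid m) * d) * mid m by group,
      mid_sq, mul_one, hd.sgen.sq, mul_one, mid_sq]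

theorem SPlus_inv {s : Equiv.Perm (Fin (dim m))} (hs : s ∈ SPlus m) : s⁻¹ = s :=
  inv_eq_of_mul_eq_one_right (SPlus_sq hs)

theorem SPlus_conj {s : Equiv.Perm (Fin (dim m))} (hs : s ∈ SPlus m) : mid m * s * mid m ∈ SPlus m := by
  obtain ⟨d, hd, rfl | rfl⟩ := hs
  · exact ⟨_, hd, Or.inr rfl⟩
  · refine ⟨d, hd, Or.inl ?_⟩
    rw [show mid m * (mid m * d * mid m) * mid m = (mid m * mid m) * d * (mid m * mid m) by group,
      mid_sq, one_mul, mul_one]

/-- The Weyl group of type D. -/
def WPlus (m : ℕ) : Subgroup (Equiv.Perm (Fin (dim m))) := Subgroup.closure (SPlus m)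

theorem WPlus_le_sym : WPlus m ≤ TwData.symPerm (dim m) :=
  (Subgroup.closure_le _).2 fun _ hs => SPlus_sym hs

theorem WPlus_sign {w : Equiv.Perm (Fin (dim m))} (hw : w ∈ WPlus m) : Equiv.Perm.sign w = 1 := by
  induction hw using Subgroup.closure_induction with
  | mem s hs =>
    obtain ⟨d, hd, rfl | rfl⟩ := hs
    · exact hd.sign
    · rw [map_mul, map_mul, hd.sign, mul_one, ← map_mul, mid_sq, map_one]
  | one => exact map_one _
  | mul a b _ _ ha hb => rw [map_mul, ha, hb, mul_one]
  | inv a _ ha => rw [map_inv, ha, inv_one]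

theorem mid_not_mem : mid m ∉ WPlus m := fun h => by
  have := WPlus_sign h
  rw [mid, Equiv.Perm.sign_swap (rev_ne _).symm] at this
  exact absurd this (by decide)

theorem WPlus_conj {w : Equiv.Perm (Fin (dim m))} (hw : w ∈ WPlus m) : mid m * w * mid m ∈ WPlus m := by
  induction hw using Subgroup.closure_induction with
  | mem s hs => exact Subgroup.subset_closure (SPlus_conj hs)
  | one => rw [mul_one, mid_sq]; exact one_mem _
  | mul a b _ _ ha hb =>
    rw [show mid m * (a * b) * mid m = (mid m * a * mid m) * (mid m * b * mid m) by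
      rw [show (mid m * a * mid m) * (mid m * b * mid m) = mid m * a * (mid m * mid m) * b * mid m by group,
        mid_sq]; group]
    exact mul_mem ha hb
  | inv a _ ha =>
    rw [show mid m * a⁻¹ * mid m = (mid m * a * mid m)⁻¹ by
      rw [_root_.mul_inv_rev, _root_.mul_inv_rev, mid_inv, mul_assoc]]
    exact inv_mem ha

theorem eq_mid_of_shape {i j : Fin (dim m)} (hij : (j : ℕ) = i + 1) (h : j = i.rev) :
    Equiv.swap i j = mid m := by
  have hi : i = midA m := by
    rw [Fin.ext_iff, Fin.val_rev] at h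
    apply Fin.ext
    simp only [midA, dim] at *
    omega
  rw [h, hi]
  rfl

theorem sym_cases {w : Equiv.Perm (Fin (dim m))} (hw : w ∈ TwData.symPerm (dim m)) :
    w ∈ WPlus m ∨ w * mid m ∈ WPlus m := by
  have h := TwData.mem_closure_SGen _ w hw le_rfl
  clear hw
  induction h using Subgroup.closure_induction with
  | mem s hs =>
    obtain ⟨i, j, hij, ⟨h, rfl⟩ | ⟨h, rfl⟩ | ⟨h, rfl⟩⟩ := hs
    · right
      rw [eq_mid_of_shape hij h, mid_sq]
      exact one_mem _
    · exact absurd h (rev_ne j)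
    · exact Or.inl (Subgroup.subset_closure ⟨_, ⟨i, j, hij, h, rfl⟩, Or.inl rfl⟩)
  | one => exact Or.inl (one_mem _)
  | mul a b _ _ ha hb =>
    rcases ha with ha | ha <;> rcases hb with hb | hb
    · exact Or.inl (mul_mem ha hb)
    · exact Or.inr (by rw [mul_assoc]; exact mul_mem ha hb)
    · refine Or.inr ?_
      rw [show a * b * mid m = (a * mid m) * (mid m * b * mid m) by
        rw [show a * mid m * (mid m * b * mid m) = a * (mid m * mid m) * b * mid m by group, mid_sq, mul_one]]
      exact mul_mem ha (WPlus_conj hb)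
    · refine Or.inl ?_
      rw [show a * b = (a * mid m) * (mid m * (b * mid m) * mid m) by
        rw [show a * mid m * (mid m * (b * mid m) * mid m) = a * (mid m * mid m) * b * (mid m * mid m) by group,
          mid_sq, mul_one, mul_one]]
      exact mul_mem ha (WPlus_conj hb)
  | inv a _ ha =>
    rcases ha with ha | ha
    · exact Or.inl (inv_mem ha)
    · refine Or.inr ?_
      rw [show a⁻¹ * mid m = mid m * (a * mid m)⁻¹ * mid m by
        rw [_root_.mul_inv_rev, mid_inv, ← mul_assoc, mid_sq, one_mul]]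
      exact WPlus_conj (inv_mem ha)

/-- Inversion of a root by a double descent or its conjugate. -/
theorem exists_root {w : Equiv.Perm (Fin (dim m))} (hw : w ∈ WPlus m) (hne : w ≠ 1) :
    ∃ i j : Fin (dim m), (j : ℕ) = i + 1 ∧ j < j.rev ∧ (w j < w i ∨ w (mid m j) < w (mid m i)) := by
  by_contra hcon
  push Not at hcon
  have hsym : revConj w = w := WPlus_le_sym hw
  have hsucc : ∀ i j : Fin (dim m), (j : ℕ) = i + 1 → j ≠ i.rev → w i ≤ w j := by
    intro i j hij hne'
    have hi := i.isLt
    rcases lt_trichotomy j j.rev with h | h | h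
    · exact (hcon i j hij h).1
    · exact absurd h.symm (rev_ne j)
    · have hlt : i.rev < i := by
        rw [Fin.lt_def, Fin.val_rev] at h ⊢
        rw [Ne, Fin.ext_iff, Fin.val_rev] at hne'
        simp only [dim] at *
        omega
      have hj := j.isLt
      have := (hcon j.rev i.rev (by rw [Fin.val_rev, Fin.val_rev]; omega) (by rwa [Fin.rev_rev])).1
      rwa [TwData.rev_comm hsym, TwData.rev_comm hsym, Fin.rev_le_rev] at this
  have hsuff : ∀ x ∈ TwData.symPerm (dim m), (∀ i j : Fin (dim m), (j : ℕ) = i + 1 → x i ≤ x j) → x = 1 := by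
    intro x _ hx
    by_contra hx1
    obtain ⟨i, j, hij, hd⟩ := TwData.exists_descent hx1
    exact absurd (hx i j hij) (not_le.2 hd)
  rcases le_or_gt (w (midA m)) (w (midA m).rev) with hmid | hmid
  · refine hne (hsuff w hsym fun i j hij => ?_)
    by_cases h : j = i.rev
    · have hi : i = midA m := by
        rw [Fin.ext_iff, Fin.val_rev] at h
        apply Fin.ext
        simp only [midA, dim] at *
        omega
      rw [h, hi]
      exact hmid
    · exact hsucc i j hij h
  · have h1 : w * mid m = 1 := by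
      refine hsuff _ (mul_mem hsym mid_sym) fun i j hij => ?_
      have hi := i.isLt
      have hj := j.isLt
      simp only [Equiv.Perm.mul_apply]
      rcases lt_trichotomy (i : ℕ) m with h | h | h
      · by_cases h' : (j : ℕ) = m
        · exact (hcon i j hij (by rw [Fin.lt_def, Fin.val_rev]; simp only [dim] at *; omega)).2
        · rw [mid_of_ne (by omega) (by omega), mid_of_ne h' (by omega)]
          exact hsucc i j hij (by
            rw [Ne, Fin.ext_iff, Fin.val_rev]; simp only [dim] at *; omega)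
      · rw [mid_of_eq h, mid_of_eq' (by omega)]
        exact hmid.le
      · by_cases h' : (i : ℕ) = m + 1
        · have hk := (hcon j.rev i.rev (by rw [Fin.val_rev, Fin.val_rev]; omega) (by
            rw [Fin.rev_rev, Fin.lt_def, Fin.val_rev]; simp only [dim] at *; omega)).2
          have hc : ∀ x : Fin (dim m), mid m x.rev = (mid m x).rev := TwData.rev_comm mid_sym
          rwa [hc, hc, TwData.rev_comm hsym, TwData.rev_comm hsym, Fin.rev_le_rev] at hk
        · rw [mid_of_ne (by omega) h', mid_of_ne (by omega) (by omega)]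
          exact hsucc i j hij (by
            rw [Ne, Fin.ext_iff, Fin.val_rev]; simp only [dim] at *; omega)
    exact mid_not_mem (by
      rw [show w = mid m by rw [← mid_inv]; exact eq_inv_of_mul_eq_one_left h1] at hw
      exact hw)

variable {F : Type*} [Field F]

/-- The double root element. -/
noncomputable def rootPair {i j : Fin (dim m)} (h : i ≠ j) : GL (Fin (dim m)) F :=
  xGL h (1 : F) * xGL (Fin.rev_injective.ne h.symm) (-1)

theorem rootPair_ne_one {i j : Fin (dim m)} (h : i ≠ j) (hj : j ≠ i.rev) :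
    rootPair (F := F) h ≠ 1 := by
  intro e
  have e1 := congrArg (fun g : GL (Fin (dim m)) F => (g : Matrix (Fin (dim m)) (Fin (dim m)) F) i j) e
  simp only [rootPair, mul_xGL_apply, xGL_apply, Units.val_one, Matrix.one_apply, if_neg h, if_neg hj,
    and_self, if_true, zero_add, add_zero] at e1
  exact one_ne_zero e1

theorem rootPair_unitri {i j : Fin (dim m)} (h : i < j) : rootPair (F := F) h.ne ∈ unitriGL (dim m) F :=
  mul_mem (xGL_mem_unitri h 1) (xGL_mem_unitri (Fin.rev_lt_rev.2 h) _)

theorem rootPair_mem_OGrp {i j : Fin (dim m)} (h : i < j) (hj : j < j.rev) :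
    rootPair (F := F) h.ne ∈ OGrp m F := by
  have hji : j.rev < i.rev := Fin.rev_lt_rev.2 h
  have hir : i < i.rev := (h.trans hj).trans hji
  refine mem_OGrp_iff.2 ⟨?_, fun c => qPlus_of_disjoint fun r => ?_⟩
  · let T : TwData (dim m) F → Prop := fun _ => True
    have hx : ∀ {a b : Fin (dim m)} (hab : a ≠ b) (x : F),
        θ m F (xGL hab x) = xGL (Fin.rev_injective.ne hab.symm) (-x) := fun {a b} hab x => by
      apply Units.ext
      ext r s
      rw [θ, theta_apply, xGL_inv, xGL_apply, xGL_apply]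
      simp only [RingHom.id_apply]
      congr 1
      · congr 1
        exact propext ⟨fun e => (Fin.rev_injective e).symm, fun e => by rw [e]⟩
      · congr 1
        exact propext ⟨fun ⟨e1, e2⟩ => ⟨by rw [← e2, Fin.rev_rev], by rw [← e1, Fin.rev_rev]⟩,
          fun ⟨e1, e2⟩ => ⟨by rw [e2, Fin.rev_rev], by rw [e1, Fin.rev_rev]⟩⟩
    rw [rootPair, map_mul, hx, hx, TwData.xGL_mul_comm (Fin.rev_injective.ne h.ne') _
      (by rw [Fin.rev_rev]; exact hir.ne') (by rw [Fin.rev_rev]; exact hj.ne)]
    simp only [Fin.rev_rev, neg_neg]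
  · rw [col_apply, col_apply, rootPair, mul_xGL_apply, mul_xGL_apply, xGL_apply, xGL_apply, xGL_apply,
      xGL_apply]
    have hv1 := Fin.val_rev i
    have hv2 := Fin.val_rev j
    have hv3 := Fin.val_rev r
    have := i.isLt
    have := r.isLt
    have := c.isLt
    simp only [Fin.lt_def, Fin.ext_iff, dim] at *
    split_ifs <;> first | omega | simp

variable [Finite F]

variable (m F) in
/-- The orthogonal unitriangular group. -/
noncomputable def UPlus : Subgroup (GL (Fin (dim m)) F) := unitriGL (dim m) F ⊓ OGrp m F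

variable (m F) in
/-- The orthogonal torus. -/
noncomputable def HPlus : Subgroup (GL (Fin (dim m)) F) := torus (dim m) F ⊓ OGrp m F

theorem perm_conj_unitri_mid {u : GL (Fin (dim m)) F} (hu : u ∈ UPlus m F) :
    permGL F (mid m) * u * (permGL F (mid m))⁻¹ ∈ UPlus m F := by
  refine ⟨?_, (OGrp m F).mul_mem ((OGrp m F).mul_mem (permGL_mem_OGrp mid_sym) hu.2) ((OGrp m F).inv_mem (permGL_mem_OGrp mid_sym))⟩
  have h0 := mid_entry hu.1 hu.2 (a := midA m) rfl
  rw [show permGL F (mid m) * u * (permGL F (mid m))⁻¹ = (permGL F (mid m))⁻¹ * u * permGL F (mid m) by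
    rw [permGL_inv, mid_inv]]
  refine mem_unitri.2 ⟨mem_upper.2 fun r c hrc => ?_, fun r => ?_⟩
  · rw [perm_conj_apply]
    have hrc' : (c : ℕ) < r := hrc
    by_cases hc : (c : ℕ) = m <;> by_cases hr : (r : ℕ) = m + 1
    · rw [mid_of_eq hc, mid_of_eq' hr]
      exact h0
    all_goals
      refine mem_upper.1 (mem_unitri.1 hu.1).1 _ _ ?_
      by_cases hc' : (c : ℕ) = m + 1 <;> by_cases hr' : (r : ℕ) = m
      all_goals
        simp only [Fin.lt_def, mid, Equiv.swap_apply_def, Fin.ext_iff, midA_rev_val] at *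
        have hA : ((midA m : Fin (dim m)) : ℕ) = m := rfl
        have := midA_rev_val (m := m)
        split_ifs <;> omega
  · rw [perm_conj_apply]
    exact (mem_unitri.1 hu.1).2 _

theorem perm_conj_torus_mid {h : GL (Fin (dim m)) F} (hh : h ∈ HPlus m F) {w : Equiv.Perm (Fin (dim m))}
    (hw : revConj w = w) : permGL F w * h * (permGL F w)⁻¹ ∈ HPlus m F :=
  ⟨perm_conj_torus w hh.1, (OGrp m F).mul_mem ((OGrp m F).mul_mem (permGL_mem_OGrp hw) hh.2) ((OGrp m F).inv_mem (permGL_mem_OGrp hw))⟩

theorem double_step {d : Equiv.Perm (Fin (dim m))} (hd : IsDouble d) {u : GL (Fin (dim m)) F}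
    (hu : u ∈ UPlus m F) {w : Equiv.Perm (Fin (dim m))} (hw : revConj w = w) :
    ∃ x, (x = d * w ∨ x = w) ∧ ∃ u' ∈ UPlus m F, ∃ h' ∈ HPlus m F, ∃ v' ∈ outPart x⁻¹ ⊓ OGrp m F,
      permGL F d * u * permGL F w = u' * h' * permGL F x * v' := by
  have hdsym : revConj d = d := hd.sgen.mem
  have hgO := mul_mem (mul_mem (permGL_mem_OGrp (F := F) hdsym) hu.2) (permGL_mem_OGrp hw)
  obtain ⟨i, j, hij, hjr, rfl⟩ := hd
  have hlt : i < j := Fin.lt_def.2 (by omega)
  have hji : j.rev < i.rev := Fin.rev_lt_rev.2 hlt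
  set L := [Equiv.swap i j, Equiv.swap j.rev i.rev]
  have hL : ∀ x ∈ L, x ∈ (gl m F).S := by
    intro x hx
    simp only [L, List.mem_cons, List.not_mem_nil, or_false] at hx
    rcases hx with rfl | rfl
    · exact TwData.mem_adj hij
    · exact TwData.mem_adj (by rw [Fin.val_rev, Fin.val_rev]; have := j.isLt; omega)
  obtain ⟨c, hc, hcell⟩ := (gl m F).mul_cell_mem L hL w ((gl m F).U_le_B hu.1)
  rw [gl_n L.prod, gl_n w, show L.prod = Equiv.swap i j * Equiv.swap j.rev i.rev by simp [L]] at hcell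
  obtain ⟨hx, u', hu', h', hh', v', hv', e⟩ := normalise hgO hcell
  refine ⟨c * w, ?_, u', hu', h', hh', v', hv', e⟩
  have hcs : revConj c = c := by
    rw [TwData.revConj_mul, hw] at hx
    exact mul_right_cancel hx
  have hcomm : Equiv.swap i j * Equiv.swap j.rev i.rev = Equiv.swap j.rev i.rev * Equiv.swap i j := by
    refine (Equiv.Perm.Disjoint.commute ?_).eq
    intro x
    by_cases h1 : x = i
    · exact Or.inr (Equiv.swap_apply_of_ne_of_ne (h1 ▸ (hlt.trans hjr).ne) (h1 ▸ ((hlt.trans hjr).trans hji).ne))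
    by_cases h2 : x = j
    · exact Or.inr (Equiv.swap_apply_of_ne_of_ne (h2 ▸ hjr.ne) (h2 ▸ (hjr.trans hji).ne))
    exact Or.inl (Equiv.swap_apply_of_ne_of_ne h1 h2)
  rcases TwData.closure_pair (Equiv.swap_mul_self i j) (Equiv.swap_mul_self _ _) hcomm hc with
    rfl | rfl | rfl | rfl
  · exact Or.inr (one_mul w)
  · exfalso
    rw [TwData.revConj_swap] at hcs
    have := congrArg (fun p : Equiv.Perm (Fin (dim m)) => p i) hcs
    simp only [Equiv.swap_apply_left] at this
    rw [Equiv.swap_apply_of_ne_of_ne ((hlt.trans hjr).trans hji).ne (hlt.trans hjr).ne] at this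
    exact hlt.ne this
  · exfalso
    rw [TwData.revConj_swap, Fin.rev_rev, Fin.rev_rev] at hcs
    have := congrArg (fun p : Equiv.Perm (Fin (dim m)) => p i) hcs
    simp only [Equiv.swap_apply_right] at this
    rw [Equiv.swap_apply_of_ne_of_ne (hlt.trans hjr).ne ((hlt.trans hjr).trans hji).ne] at this
    exact hlt.ne' this
  · exact Or.inl rfl

/-- The cell axiom. -/
theorem plus_step {s : Equiv.Perm (Fin (dim m))} (hs : s ∈ SPlus m) {u : GL (Fin (dim m)) F}
    (hu : u ∈ UPlus m F) {w : Equiv.Perm (Fin (dim m))} (hw : revConj w = w) :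
    ∃ x, (x = s * w ∨ x = w) ∧ ∃ u' ∈ UPlus m F, ∃ h' ∈ HPlus m F, ∃ v' ∈ outPart x⁻¹ ⊓ OGrp m F,
      permGL F s * u * permGL F w = u' * h' * permGL F x * v' := by
  obtain ⟨d, hd, rfl | rfl⟩ := hs
  · exact double_step hd hu hw
  · set t := mid m
    set P := permGL F t
    have hP : P * P = 1 := by rw [← permGL_mul, mid_sq, permGL_one]
    have htw : revConj (t * w) = t * w := mul_mem mid_sym (show w ∈ TwData.symPerm (dim m) from hw)
    obtain ⟨y, hy, u', hu', h', hh', v', hv', e⟩ := double_step hd (perm_conj_unitri_mid hu) htw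
    have hg : permGL F (t * d * t) * u * permGL F w =
        (P * u' * P⁻¹) * (P * h' * P⁻¹) * permGL F (t * y) * v' := by
      calc permGL F (t * d * t) * u * permGL F w
          = P * (permGL F d * (P * u * P⁻¹) * permGL F (t * w)) := by
            rw [permGL_mul, permGL_mul, permGL_mul]
            simp only [P]
            group
        _ = P * (u' * h' * permGL F y * v') := by rw [e]
        _ = _ := by rw [permGL_mul]; simp only [P]; group
    have hu2 := perm_conj_unitri_mid hu'
    have hh2 := perm_conj_torus_mid hh' (w := t) mid_sym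
    have hgO : permGL F (t * d * t) * u * permGL F w ∈ OGrp m F :=
      mul_mem (mul_mem (permGL_mem_OGrp (mul_mem (mul_mem mid_sym hd.sgen.mem) mid_sym)) hu.2)
        (permGL_mem_OGrp hw)
    have hcell : Tits.InCell (gl m F).U (gl m F).H ((gl m F).n (t * y))
        (permGL F (t * d * t) * u * permGL F w) := by
      refine ⟨P * u' * P⁻¹, hu2.1, P * h' * P⁻¹, hh2.1, v', (mem_outPart.1 hv'.1).1, 1, one_mem _, ?_⟩
      rw [hg, gl_n, mul_one]
    obtain ⟨hx, u'', hu'', h'', hh'', v'', hv'', e'⟩ := normalise hgO hcell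
    refine ⟨t * y, ?_, u'', hu'', h'', hh'', v'', hv'', e'⟩
    rcases hy with rfl | rfl
    · exact Or.inl (by group)
    · exact Or.inr (by rw [← mul_assoc, mid_sq, one_mul])

variable (m F) in
/-- The group of type D. -/
noncomputable def GPlus : Subgroup (GL (Fin (dim m)) F) :=
  Subgroup.closure ((UPlus m F : Set (GL (Fin (dim m)) F)) ∪ (HPlus m F : Set (GL (Fin (dim m)) F)) ∪
    permGL F '' SPlus m)

theorem UPlus_le : UPlus m F ≤ GPlus m F := fun _ h => Subgroup.subset_closure (Or.inl (Or.inl h))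

theorem HPlus_le : HPlus m F ≤ GPlus m F := fun _ h => Subgroup.subset_closure (Or.inl (Or.inr h))

theorem GPlus_le_OGrp : GPlus m F ≤ OGrp m F := by
  refine (Subgroup.closure_le _).2 ?_
  rintro g ((hg | hg) | ⟨s, hs, rfl⟩)
  exacts [hg.2, hg.2, permGL_mem_OGrp (SPlus_sym hs)]

theorem permGL_mem_GPlus {w : Equiv.Perm (Fin (dim m))} (hw : w ∈ WPlus m) : permGL F w ∈ GPlus m F := by
  induction hw using Subgroup.closure_induction with
  | mem s hs => exact Subgroup.subset_closure (Or.inr ⟨s, hs, rfl⟩)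
  | one => rw [permGL_one]; exact one_mem _
  | mul a b _ _ ha hb => rw [permGL_mul]; exact mul_mem ha hb
  | inv a _ ha => rw [← permGL_inv]; exact inv_mem ha

theorem GPlus_nf {g : GL (Fin (dim m)) F} (hg : g ∈ GPlus m F) :
    ∃ u ∈ UPlus m F, ∃ h ∈ HPlus m F, ∃ w ∈ WPlus m, ∃ v ∈ outPart w⁻¹ ⊓ OGrp m F,
      g = u * h * permGL F w * v := by
  suffices key : ∀ x ∈ ((UPlus m F : Set (GL (Fin (dim m)) F)) ∪ (HPlus m F : Set (GL (Fin (dim m)) F)) ∪
      permGL F '' SPlus m), ∀ u ∈ UPlus m F, ∀ h ∈ HPlus m F, ∀ w ∈ WPlus m, ∀ v ∈ outPart w⁻¹ ⊓ OGrp m F,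
      ∃ u' ∈ UPlus m F, ∃ h' ∈ HPlus m F, ∃ w' ∈ WPlus m, ∃ v' ∈ outPart w'⁻¹ ⊓ OGrp m F,
        x * (u * h * permGL F w * v) = u' * h' * permGL F w' * v' by
    induction hg using Subgroup.closure_induction_left with
    | one =>
      exact ⟨1, one_mem _, 1, one_mem _, 1, one_mem _, 1, one_mem _, by rw [permGL_one]; group⟩
    | mul_left x hx y _ ih =>
      obtain ⟨u, hu, h, hh, w, hw, v, hv, rfl⟩ := ih
      exact key x hx u hu h hh w hw v hv
    | inv_mul_cancel x hx y _ ih =>
      obtain ⟨u, hu, h, hh, w, hw, v, hv, rfl⟩ := ih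
      refine key x⁻¹ ?_ u hu h hh w hw v hv
      rcases hx with (hx | hx) | ⟨s, hs, rfl⟩
      · exact Or.inl (Or.inl ((UPlus m F).inv_mem hx))
      · exact Or.inl (Or.inr ((HPlus m F).inv_mem hx))
      · exact Or.inr ⟨s, hs, by rw [permGL_inv, SPlus_inv hs]⟩
  intro x hx u hu h hh w hw v hv
  have hwsym : revConj w = w := WPlus_le_sym hw
  rcases hx with (hx | hx) | ⟨s, hs, rfl⟩
  · exact ⟨x * u, mul_mem hx hu, h, hh, w, hw, v, hv, by group⟩
  · refine ⟨x * u * x⁻¹, ⟨torus_conj_unitri hx.1 hu.1, (OGrp m F).mul_mem ((OGrp m F).mul_mem hx.2 hu.2) ((OGrp m F).inv_mem hx.2)⟩,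
      x * h, mul_mem hx hh, w, hw, v, hv, by group⟩
  · obtain ⟨y, hy, u', hu', h', hh', v', hv', e⟩ := plus_step hs hu hwsym
    have hyW : y ∈ WPlus m := by
      rcases hy with rfl | rfl
      · exact mul_mem (Subgroup.subset_closure hs) hw
      · exact hw
    set P := permGL F w
    set k := P⁻¹ * h * P
    have hk : k ∈ HPlus m F := by
      have h' := perm_conj_torus_mid hh (w := w⁻¹) ((TwData.revConj_inv w).trans (by rw [hwsym]))
      rwa [← permGL_inv, inv_inv] at h'
    set k' := permGL F y * k * (permGL F y)⁻¹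
    have hk' : k' ∈ HPlus m F := perm_conj_torus_mid hk (by
      exact (WPlus_le_sym hyW : y ∈ TwData.symPerm (dim m)))
    have hgO : permGL F s * (u * h * P * v) ∈ OGrp m F := mul_mem (permGL_mem_OGrp (SPlus_sym hs))
      (mul_mem (mul_mem (mul_mem hu.2 hh.2) (permGL_mem_OGrp hwsym)) hv.2)
    have hcell : Tits.InCell (gl m F).U (gl m F).H ((gl m F).n y) (permGL F s * (u * h * P * v)) := by
      refine ⟨u', hu'.1, h' * k', mul_mem hh'.1 hk'.1, k⁻¹ * v' * k * v,
        mul_mem (torus_conj_unitri' hk.1 (mem_outPart.1 hv'.1).1) (mem_outPart.1 hv.1).1, 1, one_mem _, ?_⟩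
      rw [gl_n, mul_one]
      calc permGL F s * (u * h * P * v) = (permGL F s * u * P) * (k * v) := by simp only [k]; group
        _ = _ := by rw [e]; simp only [k', k]; group
    obtain ⟨-, u'', hu'', h'', hh'', v'', hv'', e'⟩ := normalise hgO hcell
    exact ⟨u'', hu'', h'', hh'', y, hyW, v'', hv'', e'⟩

end Cfsg.Agent.H83.Classical.OPlus
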